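import Groth.Agent.EtH0Lib.ProperConn
import Groth.Agent.EtFound.SpectralPiZero

/-!
# Connected components of a spectral space and of a closed subset meeting each closure connectedly
-/

set_option autoImplicit false
set_option linter.style.haveILetI false

universe u

open CategoryTheory CategoryTheory.Limits AlgebraicGeometry Topology

namespace Groth.Agent.EtH0Lib

theorem bijective_connectedComponentsMap {Y X : Type u} [TopologicalSpace Y] [TopologicalSpace X]
    [SpectralSpace Y] [SpectralSpace X] {i : Y → X} (hi : IsClosedEmbedding i)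
    (hconn : ∀ x : X, IsConnected (Set.range i ∩ closure {x})) :
    Function.Bijective (Continuous.connectedComponentsMap hi.continuous) := by
  refine ⟨fun a b => ?_, fun c => ?_⟩
  · obtain ⟨a, rfl⟩ := ConnectedComponents.surjective_coe a
    obtain ⟨b, rfl⟩ := ConnectedComponents.surjective_coe b
    intro hab
    have hab' : connectedComponent (i a) = connectedComponent (i b) := ConnectedComponents.coe_eq_coe.1 hab
    refine ConnectedComponents.coe_eq_coe'.2 ?_
    rw [EtFound.SpectralPiZero.connectedComponent_eq_iInter_clopen b]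
    refine Set.mem_sInter.2 fun W ⟨hW, hbW⟩ => ?_
    by_contra haW
    obtain ⟨X₁, X₂, h₁, h₂, hd, hu, e₁, e₂⟩ := EtFound.SpectralPiZero.exists_lift_decomposition (Set.range i) hconn
      (i '' W) (i '' Wᶜ) (hi.isClosedMap _ hW.isClosed) (hi.isClosedMap _ hW.compl.isClosed)
      ((Set.disjoint_image_iff hi.injective).2 disjoint_compl_right)
      (by rw [← Set.image_union, Set.union_compl_self, Set.image_univ])
    have hX₁ : IsClopen X₁ := ⟨h₁, by
      have : X₁ = X₂ᶜ := Set.Subset.antisymm (fun x hx => Set.disjoint_left.1 hd hx)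
        fun x hx => (hu.ge (Set.mem_univ x)).resolve_right hx
      rw [this]; exact h₂.isOpen_compl⟩
    have hb : i b ∈ X₁ := (e₁.subset ⟨b, hbW, rfl⟩).2
    have ha : i a ∈ X₁ := hX₁.connectedComponent_subset hb (hab' ▸ mem_connectedComponent)
    obtain ⟨w, hw, hwa⟩ := e₁.symm.subset ⟨⟨a, rfl⟩, ha⟩
    exact haW (hi.injective hwa ▸ hw)
  · obtain ⟨x, rfl⟩ := ConnectedComponents.surjective_coe c
    obtain ⟨_, ⟨y, rfl⟩, hyx⟩ := (hconn x).nonempty
    exact ⟨ConnectedComponents.mk y, ConnectedComponents.coe_eq_coe'.2
      (isPreconnected_singleton.closure.subset_connectedComponent (subset_closure rfl) hyx)⟩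

theorem range_fst_mk' {A : Type u} [CommRing A] (I : Ideal A) {X : Scheme.{u}} (f : X ⟶ Spec (CommRingCat.of A)) :
    Set.range (pullback.fst f (Spec.map (CommRingCat.ofHom (Ideal.Quotient.mk I)))) = Zof f I := by
  rw [Scheme.Pullback.range_fst, HensCouple7.range_specMap_mk]
  rfl

/-- The closed part of a proper scheme over a henselian pair has the same connected components. -/
theorem bijective_components {A : Type u} [CommRing A] (I : Ideal A) [HenselianRing A I] {X Y : Scheme.{u}}
    (f : X ⟶ Spec (CommRingCat.of A)) [IsProper f] (i : Y ⟶ X) [QuasiSeparatedSpace Y] (hi : IsClosedEmbedding i)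
    (hr : Set.range i = Zof f I) :
    Function.Bijective (Continuous.connectedComponentsMap i.continuous) := by
  haveI : CompactSpace X := QuasiCompact.compactSpace_of_compactSpace f
  haveI : QuasiSeparatedSpace X := quasiSeparatedSpace_of_quasiSeparated f
  haveI : SpectralSpace X := {}
  haveI : CompactSpace Y := hi.compactSpace
  haveI : SpectralSpace Y := {}
  exact bijective_connectedComponentsMap hi fun x => by
    rw [hr]; exact isConnected_inter_closure_proper I f x

theorem connectedSpace_iff_of_bijective {Y X : Type u} [TopologicalSpace Y] [TopologicalSpace X] {i : Y → X}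
    (hc : Continuous i) (hi : Function.Bijective hc.connectedComponentsMap) :
    ConnectedSpace X ↔ ConnectedSpace Y := by
  have key : ∀ (Z : Type u) [TopologicalSpace Z], ConnectedSpace Z ↔
      Subsingleton (ConnectedComponents Z) ∧ Nonempty (ConnectedComponents Z) := fun Z _ => by
    refine ⟨fun h => ⟨inferInstance, (h.toNonempty).map ConnectedComponents.mk⟩, fun ⟨h, hne⟩ => ?_⟩
    obtain ⟨c⟩ := hne
    obtain ⟨z, rfl⟩ := ConnectedComponents.surjective_coe c
    refine @ConnectedSpace.mk Z _ ⟨?_⟩ ⟨z⟩
    have : connectedComponent z = Set.univ := Set.eq_univ_of_forall fun w =>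
      ConnectedComponents.coe_eq_coe'.1 (Subsingleton.elim (ConnectedComponents.mk w) (ConnectedComponents.mk z))
    exact this ▸ isPreconnected_connectedComponent
  rw [key X, key Y]
  exact and_congr ⟨fun _ => hi.1.subsingleton, fun _ => hi.2.subsingleton⟩
    ⟨fun ⟨c⟩ => ⟨(hi.2 c).choose⟩, fun h => h.map hc.connectedComponentsMap⟩

end Groth.Agent.EtH0Lib
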