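import Groth.Agent.BigSiteLib.EtDescSec.Stalk
import Groth.Prelude.Def_EtBase
import Groth.Prelude.Def_EtCore

/-!
# Underlying sheaves of sets of inverse images of abelian sheaves
-/

set_option autoImplicit false
set_option linter.style.haveILetI false

universe u

open CategoryTheory CategoryTheory.Limits AlgebraicGeometry Opposite
open Groth.Agent.BigSiteLib.DescSec

namespace Groth.Agent.EtH0Lib

set_option backward.isDefEq.respectTransparency.types false

variable {T S : Scheme.{u}} (g : T ⟶ S) [EtCoh.BCCont g] (F : EtCoh.Ab S)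

/-- The underlying sheaf of sets. -/
noncomputable abbrev uSet {X : Scheme.{u}} (G : EtCoh.Ab X) : EtDesc.Sh X :=
  (sheafCompose X.smallEtaleTopology (forget AddCommGrpCat.{u + 1})).obj G

/-- The unit of abelian sheaves on underlying sets. -/
noncomputable def unitU : uSet F ⟶ (EtDesc.pushSh g).obj (uSet ((EtCoh.pull g).obj F)) :=
  ⟨Functor.whiskerRight ((EtCoh.pullPushAdj g).unit.app F).hom (forget AddCommGrpCat.{u + 1})⟩

/-- The comparison. -/
noncomputable def cmp : (EtDesc.pullSh g).obj (uSet F) ⟶ uSet ((EtCoh.pull g).obj F) :=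
  ((EtDesc.adjSh g).homEquiv _ _).symm (unitU g F)

theorem cmp_up (U : S.Etale) (a : (uSet F).obj.obj (op U)) :
    (cmp g F).hom.app (op ((EtCoh.bc g).obj U)) (up g (uSet F) U a) =
      ((EtCoh.pullPushAdj g).unit.app F).hom.app (op U) a := by
  have h : (EtDesc.adjSh g).unit.app (uSet F) ≫ (EtDesc.pushSh g).map (cmp g F) = unitU g F :=
    ((EtDesc.adjSh g).homEquiv_unit (f := cmp g F)).symm.trans (Equiv.apply_symm_apply _ _)
  exact ConcreteCategory.congr_hom (congrArg (fun α : uSet F ⟶ _ => α.hom.app (op U)) h) a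

section germs

variable {X : Scheme.{u}} {Ω : Type u} [Field Ω] [IsSepClosed Ω] (ξ : Spec (CommRingCat.of Ω) ⟶ X) (G : EtCoh.Ab X)

theorem germ_uSet_eq_iff (U : X.Etale) (t : (Scheme.pointSmallEtale ξ).fiber.obj U) (a b : ToType (G.obj.obj (op U))) :
    germ (uSet G) ξ U t a = germ (uSet G) ξ U t b ↔
      (Scheme.pointSmallEtale ξ).toPresheafFiber U t G.obj a = (Scheme.pointSmallEtale ξ).toPresheafFiber U t G.obj b :=
  ((Scheme.pointSmallEtale ξ).toPresheafFiber_eq_iff' (P := (uSet G).obj) U t a b).trans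
    ((Scheme.pointSmallEtale ξ).toPresheafFiber_eq_iff' (P := G.obj) U t a b).symm

end germs

theorem isIso_cmp : IsIso (cmp g F) := by
  refine EtFound.isIso_of_stalks _ fun Ω _ _ ξ => ⟨fun p q hpq => ?_, fun c => ?_⟩
  · refine (stI g ξ (uSet F)).injective ?_
    obtain ⟨V, v, a, b, ha, hb⟩ := (Scheme.pointSmallEtale (ξ ≫ g)).toPresheafFiber_jointly_surjective₂
      (P := (uSet F).obj) (stI g ξ (uSet F) p) (stI g ξ (uSet F) q)
    let t := (EtFound.bcFiberEquiv g ξ V).symm v
    have hv : EtFound.bcFiberEquiv g ξ V t = v := Equiv.apply_symm_apply _ _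
    have key : ∀ (r : St ((EtDesc.pullSh g).obj (uSet F)) ξ) (x : ToType ((uSet F).obj.obj (op V))),
        germ (uSet F) (ξ ≫ g) V v x = stI g ξ (uSet F) r →
        r = germ ((EtDesc.pullSh g).obj (uSet F)) ξ ((EtCoh.bc g).obj V) t (up g (uSet F) V x) := fun r x hx => by
      apply (stI g ξ (uSet F)).injective
      rw [stI_germ, hv, hx]
    rw [key p a ha, key q b hb] at hpq
    rw [← ha, ← hb]
    rw [germ_natural, germ_natural, cmp_up, cmp_up, germ_uSet_eq_iff, EtFound.germ_unit_eq_iff, hv,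
      ← germ_uSet_eq_iff] at hpq
    exact hpq
  · obtain ⟨U, t, y, rfl⟩ := germ_surjective (uSet ((EtCoh.pull g).obj F)) ξ c
    let Φ := Scheme.pointSmallEtale ξ
    obtain ⟨V, v, a, ha⟩ := (Scheme.pointSmallEtale (ξ ≫ g)).toPresheafFiber_jointly_surjective (P := F.obj)
      ((EtFound.sheafFiberPullIso g ξ).hom.app F (Φ.toPresheafFiber U t ((EtCoh.pull g).obj F).obj y))
    let t' := (EtFound.bcFiberEquiv g ξ V).symm v
    refine ⟨germ ((EtDesc.pullSh g).obj (uSet F)) ξ _ t' (up g (uSet F) V a), ?_⟩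
    rw [germ_natural, cmp_up]
    have hAb : Φ.toPresheafFiber ((EtCoh.bc g).obj V) t' ((EtCoh.pull g).obj F).obj
        (((EtCoh.pullPushAdj g).unit.app F).hom.app (op V) a) =
          Φ.toPresheafFiber U t ((EtCoh.pull g).obj F).obj y := by
      have h := (ConcreteCategory.comp_apply _ _ a).symm.trans
        ((ConcreteCategory.congr_hom (EtFound.sheafFiberPullIso_germ g ξ F V t') a).trans (ConcreteCategory.comp_apply _ _ a))
      rw [show EtFound.bcFiberEquiv g ξ V t' = v from Equiv.apply_symm_apply _ _, ha] at h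
      refine h.symm.trans ?_
      exact (ConcreteCategory.comp_apply _ _ _).symm.trans
        ((ConcreteCategory.congr_hom ((EtFound.sheafFiberPullIso g ξ).hom_inv_id_app F) _).trans
          (ConcreteCategory.id_apply _))
    obtain ⟨⟨W, w⟩, ⟨α, hα⟩, ⟨β, hβ⟩, -⟩ := IsCofilteredOrEmpty.cone_objs
      (Φ.fiber.elementsMk _ t') (Φ.fiber.elementsMk U t)
    obtain ⟨α', hα'⟩ : ∃ α' : W ⟶ (EtCoh.bc g).obj V, Φ.fiber.map α' w = t' := ⟨α, hα⟩
    obtain ⟨β', hβ'⟩ : ∃ β' : W ⟶ U, Φ.fiber.map β' w = t := ⟨β, hβ⟩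
    rw [← hα', ← hβ'] at hAb ⊢
    rw [← Φ.toPresheafFiber_w_apply, ← Φ.toPresheafFiber_w_apply] at hAb
    rw [← germ_map, ← germ_map]
    exact (germ_uSet_eq_iff ξ _ W w _ _).2 hAb

theorem bijective_unit_top (h : Function.Bijective (EtDesc.secPull g (uSet F))) :
    Function.Bijective (((EtCoh.pullPushAdj g).unit.app F).hom.app (op (EtCoh.top S))) := by
  haveI := isIso_cmp g F
  have e : (fun a => ((EtCoh.pullPushAdj g).unit.app F).hom.app (op (EtCoh.top S)) a) =
      (fun y => (cmp g F).hom.app (op ((EtCoh.bc g).obj (EtCoh.top S))) y) ∘ up g (uSet F) (EtCoh.top S) :=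
    funext fun a => (cmp_up g F (EtCoh.top S) a).symm
  rw [show (⇑(((EtCoh.pullPushAdj g).unit.app F).hom.app (op (EtCoh.top S))) : _ → _) = _ from e]
  refine Function.Bijective.comp (((sheafToPresheaf _ _).mapIso (asIso (cmp g F))).app _).toEquiv.bijective ?_
  exact ((((EtDesc.pullSh g).obj (uSet F)).obj.mapIso (EtCore.bcTopIso g).symm.op).toEquiv.bijective.of_comp_iff'
    (up g (uSet F) (EtCoh.top S))).1 h

end Groth.Agent.EtH0Lib
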