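import Groth.Agent.EtH0Lib.H0Tau

/-!
# Global sections of sheaves of sets over proper schemes over henselian pairs
-/

set_option autoImplicit false
set_option linter.style.haveILetI false

universe u

open CategoryTheory CategoryTheory.Limits AlgebraicGeometry Opposite TopologicalSpace
open Groth.Agent.BigSiteLib.DescSec

namespace Groth.Agent.EtH0Lib

set_option backward.isDefEq.respectTransparency.types false

theorem bijective_secPull_of_isConnected {X Z : Scheme.{u}} [CompactSpace X] [QuasiSeparatedSpace X]
    (i : Z ⟶ X) [IsClosedImmersion i]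
    (hconn : ∀ {P : Scheme.{u}} (k : P ⟶ X) [IsIntegralHom k] (x : P), IsConnected (k ⁻¹' Set.range i ∩ closure {x}))
    {X' : Scheme.{u}} (π : X' ⟶ X) [IsIntegralHom π] [Surjective π]
    (hS : ∀ x : X', EtCoh.IsStrictlyHenselianLocalRing (X'.presheaf.stalk x)) (F : EtDesc.Sh X) : Function.Bijective (EtDesc.secPull i F) := by
  have hmeet : ∀ {P : Scheme.{u}} (k : P ⟶ X) [IsIntegralHom k] (x : P), ∃ y : P, x ⤳ y ∧ k y ∈ Set.range i :=
    fun {P} k _ x => by
      obtain ⟨y, hy, hyx⟩ := (hconn k x).nonempty
      exact ⟨y, specializes_iff_mem_closure.2 hyx, hy⟩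
  refine ⟨secPull_injective_of_meets i fun x => ?_, fun s => ?_⟩
  · obtain ⟨y, hxy, z, hz⟩ := hmeet (𝟙 X) x
    exact ⟨z, by rw [hz]; simpa using hxy⟩
  let i' : pullback π i ⟶ X' := pullback.fst π i
  let q : pullback π i ⟶ Z := pullback.snd π i
  let c : pullback π i ⟶ X := i' ≫ π
  have wq : q ≫ i = c := pullback.condition.symm
  haveI : CompactSpace (X') := QuasiCompact.compactSpace_of_compactSpace π
  haveI : QuasiSeparatedSpace (X') := quasiSeparatedSpace_of_quasiSeparated π
  haveI : SpectralSpace (X') := {}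
  haveI : IsClosedImmersion i' := MorphismProperty.pullback_fst (P := @IsClosedImmersion) π i inferInstance
  have hrange : Set.range i' = π ⁻¹' Set.range i := Scheme.Pullback.range_fst _ _
  obtain ⟨g', hg'⟩ := (bijective_secPull_of_strictlyHenselian (F := (EtDesc.pullSh π).obj F) i'
    (fun x => hrange ▸ hconn π x) hS).2
      ((EtDesc.pullVia i' π c rfl F).inv.hom.app (op (EtCoh.top (pullback π i))) (tau q i c wq s))
  have hτ : tau i' π c rfl g' = tau q i c wq s := by
    show (EtDesc.pullVia i' π c rfl F).hom.hom.app _ (EtDesc.secPull i' ((EtDesc.pullSh π).obj F) g') = _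
    rw [hg']
    exact app_inv_apply (EtDesc.pullVia i' π c rfl F).symm _ _
  have hπ := isUnivSubmersive_of_integral π
  have hcoc : tau (pullback.fst π π) π (pullback.fst π π ≫ π) rfl g' =
      tau (pullback.snd π π) π (pullback.fst π π ≫ π) pullback.condition.symm g' := by
    refine eq_of_locEq _ fun t => ?_
    haveI : IsIntegralHom (pullback.fst π π ≫ π) := inferInstance
    obtain ⟨y, hty, z₀, hz₀⟩ := hmeet (pullback.fst π π ≫ π)
      (show ↥(pullback π π) from t)
    exact hty.mem_open (isOpen_locEq (P := ((EtDesc.pullSh (pullback.fst π π ≫ π)).obj F).obj)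
      (tau (pullback.fst π π) π (pullback.fst π π ≫ π) rfl g')
      (tau (pullback.snd π π) π (pullback.fst π π ≫ π) pullback.condition.symm g'))
      (locEq_tau_of_cover π i i' q (IsPullback.of_hasPullback π i) c rfl wq s g' hτ _ _ (pullback.fst π π ≫ π) rfl
        pullback.condition.symm y z₀ hz₀)
  obtain ⟨g₀, hg₀⟩ := exists_secPull_of_tau π hπ g' hcoc
  refine ⟨g₀, ?_⟩
  haveI : IsIntegralHom q := MorphismProperty.pullback_snd (P := @IsIntegralHom) π i inferInstance
  haveI : Surjective q := MorphismProperty.pullback_snd (P := @Surjective) π i inferInstance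
  refine secPull_injective q (isUnivSubmersive_of_integral q) ((EtDesc.pullSh i).obj F) ?_
  refine (((sheafToPresheaf _ _).mapIso (EtDesc.pullVia q i c wq F)).app (op (EtCoh.top _))).toEquiv.injective ?_
  show (EtDesc.pullVia q i c wq F).hom.hom.app _ _ = tau q i c wq s
  rw [via_secPull, ← hτ, ← hg₀]
  exact (via_secPull _ _ _ _ F g₀).symm

theorem bijective_secPull_aux {A : Type u} [CommRing A] (I : Ideal A) [HenselianRing A I] {X Z : Scheme.{u}}
    (f : X ⟶ Spec (CommRingCat.of A)) [IsProper f] (i : Z ⟶ X) [IsClosedImmersion i]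
    (hr : Set.range i = Zof f I) {X' : Scheme.{u}} (π : X' ⟶ X) [IsIntegralHom π] [Surjective π]
    (hS : ∀ x : X', EtCoh.IsStrictlyHenselianLocalRing (X'.presheaf.stalk x)) (F : EtDesc.Sh X) :
    Function.Bijective (EtDesc.secPull i F) := by
  haveI : CompactSpace X := QuasiCompact.compactSpace_of_compactSpace f
  haveI : QuasiSeparatedSpace X := quasiSeparatedSpace_of_quasiSeparated f
  refine bijective_secPull_of_isConnected i (fun {P} k _ x => ?_) π hS F
  have e : k ⁻¹' Set.range i = Zof (k ≫ f) I := by
    rw [hr]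
    exact Set.ext fun y => Iff.of_eq (congrArg (fun t => t ∈ PrimeSpectrum.zeroLocus (I : Set A))
      (Scheme.Hom.comp_apply k f y).symm)
  exact e ▸ isConnected_inter_closure I k f x

/-- The key theorem in sheaves of sets. -/
theorem bijective_secPull {A : Type u} [CommRing A] (I : Ideal A) [HenselianRing A I] {X Z : Scheme.{u}}
    (f : X ⟶ Spec (CommRingCat.of A)) [IsProper f] (i : Z ⟶ X) [IsClosedImmersion i]
    (hr : Set.range i = Zof f I) (F : EtDesc.Sh X) : Function.Bijective (EtDesc.secPull i F) :=
  bijective_secPull_aux I f i hr (AICCover.proj X) (isStrictlyHenselian_total X) F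

end Groth.Agent.EtH0Lib
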