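import Groth.Agent.EtH0Lib.LimConn
import Groth.Agent.HensCouple7.ProperPair
import Groth.Agent.S2147
import Groth.Agent.S2051
import Groth.Agent.Hensel.NoethPair
import Groth.Agent.AlgGlue.FiniteModels
import Mathlib.AlgebraicGeometry.Noetherian
import Mathlib.CategoryTheory.Limits.Connected

/-!
# Closures of points in proper schemes over henselian pairs meet the closed part connectedly
-/

set_option autoImplicit false
set_option linter.style.haveILetI false

universe u

open CategoryTheory CategoryTheory.Limits AlgebraicGeometry TopologicalSpace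

namespace Groth.Agent.EtH0Lib

/-- The points over the closed subset of an ideal. -/
def Zof {P : Scheme.{u}} {A : Type u} [CommRing A] (g : P ⟶ Spec (CommRingCat.of A)) (I : Ideal A) : Set P :=
  g ⁻¹' PrimeSpectrum.zeroLocus (I : Set A)

theorem isClosed_Zof {P : Scheme.{u}} {A : Type u} [CommRing A] (g : P ⟶ Spec (CommRingCat.of A)) (I : Ideal A) :
    IsClosed (Zof g I) := (PrimeSpectrum.isClosed_zeroLocus _).preimage g.continuous

/-- In a limit with affine transition maps a closed set is cut out by the closures of its images. -/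
theorem mem_of_closure_image {J : Type u} [Category.{u} J] [IsCofiltered J] (D : J ⥤ Scheme.{u}) (c : Cone D)
    (hc : IsLimit c) [∀ {i j} (f : i ⟶ j), IsAffineHom (D.map f)] {C : Set c.pt} (hC : IsClosed C) {s : c.pt}
    (hs : ∀ i, c.π.app i s ∈ closure (c.π.app i '' C)) : s ∈ C := by
  by_contra h
  obtain ⟨_, ⟨i, V, hV, rfl⟩, hsV, hVC⟩ :=
    (Opens.isBasis_iff_nbhd.1 (isBasis_preimage_isAffineOpen D c hc) : ∀ {U : c.pt.Opens} {x : c.pt}, x ∈ U → _) (show s ∈ (⟨Cᶜ, hC.isOpen_compl⟩ : c.pt.Opens) from h)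
  obtain ⟨-, hyV, y, hy, rfl⟩ := mem_closure_iff.1 (hs i) V V.isOpen hsV
  exact hVC (show y ∈ c.π.app i ⁻¹ᵁ V from hyV) hy

/-- Over a pair with `I` in the Jacobson radical closures of points meet the closed part. -/
theorem nonempty_inter_closure {P : Scheme.{u}} {A : Type u} [CommRing A] {I : Ideal A}
    (hI : I ≤ Ideal.jacobson ⊥) (g : P ⟶ Spec (CommRingCat.of A)) (hg : IsClosedMap g) (x : P) :
    (Zof g I ∩ closure {x}).Nonempty := by
  obtain ⟨m, hm, hle⟩ := Ideal.exists_le_maximal (g x).asIdeal (g x).isPrime.ne_top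
  let p : PrimeSpectrum A := ⟨m, hm.isPrime⟩
  let p' : Spec (CommRingCat.of A) := p
  have hsp : g x ⤳ p' := (PrimeSpectrum.le_iff_specializes _ _).mp hle
  obtain ⟨z, hz, hzp⟩ := (hg (closure ({x} : Set P)) isClosed_closure).stableUnderSpecialization hsp
    ⟨x, subset_closure rfl, rfl⟩
  refine ⟨z, ?_, hz⟩
  show g z ∈ PrimeSpectrum.zeroLocus (I : Set A)
  rw [hzp]
  exact hI.trans (sInf_le ⟨bot_le, hm⟩)

open Scheme.IdealSheafData in
/-- The Noetherian case. -/
theorem isPreconnected_inter_closure_noeth {A : Type u} [CommRing A] [IsNoetherianRing A] (I : Ideal A)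
    [HenselianRing A I] {P : Scheme.{u}} (g : P ⟶ Spec (CommRingCat.of A)) [IsProper g] (x : P) :
    _root_.IsPreconnected (Zof g I ∩ closure {x}) := by
  let K := vanishingIdeal ⟨closure ({x} : Set P), isClosed_closure⟩
  let j := K.subschemeι
  have hj : Set.range j = closure {x} := by
    show Set.range (subschemeι _) = _
    rw [range_subschemeι]; simp [K]
  haveI : PreconnectedSpace K.subscheme := ⟨by
    rw [← j.isClosedEmbedding.isInducing.isPreconnected_image, Set.image_univ, hj]
    exact isPreconnected_singleton.closure⟩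
  have hL := HensCouple7.lifts_proper I (j ≫ g)
  have hpre : _root_.IsPreconnected ((j ≫ g) ⁻¹' PrimeSpectrum.zeroLocus (I : Set A)) := by
    rw [isPreconnected_iff_preconnectedSpace, preconnectedSpace_iff_clopen]
    intro V hV
    obtain ⟨U, ⟨hU, rfl⟩, -⟩ := hL V hV
    rcases isClopen_iff.1 hU with rfl | rfl
    · exact Or.inl rfl
    · exact Or.inr rfl
  have e : Zof g I ∩ closure {x} = j '' ((j ≫ g) ⁻¹' PrimeSpectrum.zeroLocus (I : Set A)) := by
    rw [← hj, ← Set.image_preimage_eq_inter_range]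
    rfl
  rw [e]
  exact hpre.image _ j.continuous.continuousOn

/-- The stagewise argument. -/
theorem isPreconnected_inter_closure_lim {A : Type u} [CommRing A] (I : Ideal A) [HenselianRing A I]
    {J : Type u} [Category.{u} J] [IsCofiltered J] (D DS : J ⥤ Scheme.{u}) (φ : D ⟶ DS)
    (c : Cone D) (hc : IsLimit c) [∀ {i j} (a : i ⟶ j), IsAffineHom (D.map a)]
    [∀ {i j} (a : i ⟶ j), IsAffineHom (DS.map a)] [∀ i, CompactSpace (D.obj i)] [∀ i, QuasiSeparatedSpace (D.obj i)]
    [∀ i, IsAffine (DS.obj i)] [∀ i, IsLocallyNoetherian (DS.obj i)] [∀ i, IsProper (φ.app i)]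
    (b : (Functor.const J).obj (Spec (CommRingCat.of A)) ⟶ DS) (hb : IsLimit (Cone.mk _ b))
    (g : c.pt ⟶ Spec (CommRingCat.of A)) (hcomp : ∀ i, c.π.app i ≫ φ.app i = g ≫ b.app i) (x : c.pt) :
    _root_.IsPreconnected (Zof g I ∩ closure {x}) := by
  let Z : ∀ i, Set (D.obj i) := fun i =>
    φ.app i ⁻¹' closure (b.app i '' PrimeSpectrum.zeroLocus (I : Set A)) ∩ closure {c.π.app i x}
  have hw : ∀ {i j : J} (a : i ⟶ j) (s : c.pt), D.map a (c.π.app i s) = c.π.app j s := fun a s =>
    (Scheme.Hom.comp_apply _ _ s).symm.trans (congrArg (fun q : c.pt ⟶ _ => q s) (c.w a))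
  have hφ : ∀ i (s : c.pt), φ.app i (c.π.app i s) = b.app i (g s) := fun i s =>
    (Scheme.Hom.comp_apply _ _ s).symm.trans
      ((congrArg (fun q : c.pt ⟶ _ => q s) (hcomp i)).trans (Scheme.Hom.comp_apply _ _ s))
  have hbw : ∀ {i j : J} (a : i ⟶ j) (t : Spec (CommRingCat.of A)), DS.map a (b.app i t) = b.app j t := fun a t =>
    (Scheme.Hom.comp_apply _ _ t).symm.trans
      (congrArg (fun q : Spec (CommRingCat.of A) ⟶ _ => q t) ((Cone.mk _ b : Cone DS).w a))
  have hsing : ∀ {i} (s : c.pt), s ∈ closure ({x} : Set c.pt) → c.π.app i s ∈ closure {c.π.app i x} := fun {i} s hs =>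
    map_mem_closure (c.π.app i).continuous hs (by rintro _ rfl; exact rfl)
  have hmapsTo : ∀ {i j : J} (a : i ⟶ j), Set.MapsTo (D.map a) (Z i) (Z j) := fun {i j} a z hz => by
    refine ⟨?_, map_mem_closure (D.map a).continuous hz.2 (by rintro _ rfl; exact hw a x)⟩
    show φ.app j (D.map a z) ∈ closure _
    have : φ.app j (D.map a z) = DS.map a (φ.app i z) := (Scheme.Hom.comp_apply _ _ z).symm.trans
      ((congrArg (fun q : D.obj i ⟶ _ => q z) (φ.naturality a)).trans (Scheme.Hom.comp_apply _ _ z))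
    rw [this]
    refine map_mem_closure (DS.map a).continuous hz.1 ?_
    rintro _ ⟨t, ht, rfl⟩
    exact ⟨t, ht, (hbw a t).symm⟩
  have hT : Zof g I ∩ closure {x} = {s | ∀ i, c.π.app i s ∈ Z i} := by
    refine Set.Subset.antisymm (fun s hs i => ⟨subset_closure ⟨_, hs.1, (hφ i s).symm⟩, hsing s hs.2⟩)
      fun s hs => ⟨?_, ?_⟩
    · refine mem_of_closure_image DS (Cone.mk (Spec (CommRingCat.of A)) b) hb
        (C := PrimeSpectrum.zeroLocus (I : Set A)) (PrimeSpectrum.isClosed_zeroLocus _) (s := g s) fun i => ?_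
      show b.app i (g s) ∈ closure _
      rw [← hφ i s]
      exact (hs i).1
    · refine mem_of_closure_image D c hc (C := closure ({x} : Set c.pt)) isClosed_closure (s := s) fun i => ?_
      refine closure_mono ?_ (hs i).2
      rintro _ rfl
      exact ⟨x, subset_closure rfl, rfl⟩
  rw [hT]
  refine isPreconnected_limit D c hc Z (fun i => (isClosed_closure.preimage (φ.app i).continuous).inter isClosed_closure)
    hmapsTo fun i => ?_
  let R := Γ(DS.obj i, ⊤)
  haveI : IsNoetherianRing R := IsLocallyNoetherian.component_noetherian (X := DS.obj i) ⟨⊤, isAffineOpen_top _⟩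
  let h : D.obj i ⟶ Spec (CommRingCat.of R) := φ.app i ≫ (DS.obj i).isoSpec.hom
  haveI : IsProper h := MorphismProperty.comp_mem (W := @IsProper) _ _ inferInstance inferInstance
  let ρ' : CommRingCat.of R ⟶ CommRingCat.of A := Spec.preimage (b.app i ≫ (DS.obj i).isoSpec.hom)
  let ρ : R →+* A := ρ'.hom
  have hρ : g ≫ Spec.map (CommRingCat.ofHom ρ) = c.π.app i ≫ h := by
    show g ≫ Spec.map ρ' = c.π.app i ≫ φ.app i ≫ _
    rw [Spec.map_preimage, ← Category.assoc (c.π.app i), hcomp i, Category.assoc]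
  obtain ⟨Rh, _, _, hRh, huniv⟩ := S2051.result R (I.comap ρ)
  haveI := Hensel.isNoetherianRing_of_isPairHenselization (I.comap ρ) (⟨hRh, huniv⟩ : Hens2.IsPairHenselization _ _ Rh)
  obtain ⟨α, hα, -⟩ := huniv A I ρ inferInstance Ideal.map_comap_le
  let η : R →+* Rh := algebraMap R Rh
  haveI : HenselianRing Rh ((I.comap ρ).map η) := hRh
  let q : Spec (CommRingCat.of Rh) ⟶ Spec (CommRingCat.of R) := Spec.map (CommRingCat.ofHom η)
  let l : c.pt ⟶ pullback h q := pullback.lift (c.π.app i) (g ≫ Spec.map (CommRingCat.ofHom α)) (by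
    rw [← hρ, Category.assoc, ← Spec.map_comp, ← CommRingCat.ofHom_comp, hα])
  haveI : IsProper (pullback.snd h q) := inferInstance
  have hfst : ∀ s, pullback.fst h q (l s) = c.π.app i s := fun s =>
    (Scheme.Hom.comp_apply _ _ s).symm.trans (congrArg (fun k : c.pt ⟶ _ => k s) (pullback.lift_fst _ _ _))
  have hsnd : ∀ s, pullback.snd h q (l s) = Spec.map (CommRingCat.ofHom α) (g s) := fun s =>
    ((Scheme.Hom.comp_apply _ _ s).symm.trans (congrArg (fun k : c.pt ⟶ _ => k s) (pullback.lift_snd _ _ _))).trans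
      (Scheme.Hom.comp_apply _ _ s)
  have hh : ∀ w, h (pullback.fst h q w) = q (pullback.snd h q w) := fun w => by
    rw [← Scheme.Hom.comp_apply, pullback.condition, Scheme.Hom.comp_apply]
  refine ⟨pullback.fst h q '' (Zof (pullback.snd h q) ((I.comap ρ).map η) ∩ closure {l x}),
    (isPreconnected_inter_closure_noeth _ (pullback.snd h q) _).image _ (pullback.fst h q).continuous.continuousOn,
    ?_, fun s hs => ?_⟩
  · rintro _ ⟨w, ⟨hw₁, hw₂⟩, rfl⟩
    refine ⟨?_, map_mem_closure (pullback.fst h q).continuous hw₂ (by rintro _ rfl; exact hfst x)⟩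
    have hmem : h (pullback.fst h q w) ∈ PrimeSpectrum.zeroLocus (I.comap ρ : Set R) := by
      rw [hh]
      exact Ideal.map_le_iff_le_comap.1 hw₁
    rw [← PrimeSpectrum.closure_image_comap_zeroLocus] at hmem
    show φ.app i (pullback.fst h q w) ∈ closure _
    rw [(DS.obj i).isoSpec.hom.isClosedEmbedding.isInducing.closure_eq_preimage_closure_image]
    refine closure_mono ?_ hmem
    rintro _ ⟨p, hp, rfl⟩
    refine ⟨_, ⟨p, hp, rfl⟩, ?_⟩
    show _ = Spec.map ρ' p
    rw [Spec.map_preimage]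
    exact (Scheme.Hom.comp_apply (b.app i) (DS.obj i).isoSpec.hom (show Spec (CommRingCat.of A) from p)).symm
  · have hs' : s ∈ Zof g I ∩ closure {x} := by rw [hT]; exact hs
    refine ⟨l s, ⟨?_, map_mem_closure l.continuous hs'.2 (by rintro _ rfl; exact rfl)⟩, hfst s⟩
    show pullback.snd h q (l s) ∈ PrimeSpectrum.zeroLocus _
    rw [hsnd]
    refine le_trans ?_ (Ideal.comap_mono (hs'.1 : I ≤ (g s).asIdeal))
    rw [Ideal.map_le_iff_le_comap, Ideal.comap_comap]
    exact le_of_eq (congrArg (fun β => I.comap β) hα).symm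

/-- Closures of points of a proper scheme over a henselian pair meet the closed part in preconnected sets. -/
theorem isPreconnected_inter_closure_proper {A : Type u} [CommRing A] (I : Ideal A) [HenselianRing A I]
    {P : Scheme.{u}} (g : P ⟶ Spec (CommRingCat.of A)) [IsProper g] (x : P) :
    _root_.IsPreconnected (Zof g I ∩ closure {x}) := by
  obtain ⟨J, _, _, DX, DS, φ, cX, cS, hX, hS, eX, eS, haff, hprop, hcomp⟩ := S2147.result g
  haveI : ∀ {i j : J} (a : i ⟶ j), IsAffineHom (DS.map a) := fun a => (haff _ _ a).2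
  haveI : ∀ i, CompactSpace (DS.obj i) := fun i => (hprop i).2.1
  haveI : IsNoetherianRing (ULift.{u} ℤ) := isNoetherianRing_of_ringEquiv ℤ ULift.ringEquiv.symm
  haveI : ∀ i, IsLocallyNoetherian (DS.obj i) := fun i =>
    haveI := (hprop i).2.2
    LocallyOfFiniteType.isLocallyNoetherian (specULiftZIsTerminal.from (DS.obj i))
  haveI : IsAffine cS.pt := .of_isIso eS.hom
  obtain ⟨i₀, hi₀⟩ := Scheme.exists_isAffine_of_isLimit DS cS hS
  haveI : ∀ i, IsProper (φ.app i) := fun i => (hprop i).1
  haveI : ∀ i, CompactSpace (DX.obj i) := fun i => QuasiCompact.compactSpace_of_compactSpace (φ.app i)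
  haveI : ∀ i, QuasiSeparatedSpace (DX.obj i) := fun i => quasiSeparatedSpace_of_quasiSeparated (φ.app i)
  haveI : ∀ i : Over i₀, IsAffine ((Over.forget i₀ ⋙ DS).obj i) := fun i =>
    @isAffine_of_isAffineHom _ _ (DS.map i.hom) (haff _ _ i.hom).2 hi₀
  haveI : ∀ {i j : Over i₀} (a : i ⟶ j), IsAffineHom ((Over.forget i₀ ⋙ DS).map a) := fun a => (haff _ _ a.left).2
  haveI : ∀ {i j : Over i₀} (a : i ⟶ j), IsAffineHom ((Over.forget i₀ ⋙ DX).map a) := fun a => (haff _ _ a.left).1
  haveI : ∀ i : Over i₀, CompactSpace ((Over.forget i₀ ⋙ DX).obj i) := fun i =>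
    inferInstanceAs (CompactSpace (DX.obj i.left))
  haveI : ∀ i : Over i₀, QuasiSeparatedSpace ((Over.forget i₀ ⋙ DX).obj i) := fun i =>
    inferInstanceAs (QuasiSeparatedSpace (DX.obj i.left))
  haveI : ∀ i : Over i₀, IsLocallyNoetherian ((Over.forget i₀ ⋙ DS).obj i) := fun i =>
    inferInstanceAs (IsLocallyNoetherian (DS.obj i.left))
  haveI : ∀ i : Over i₀, IsProper ((Functor.whiskerLeft (Over.forget i₀) φ).app i) := fun i =>
    (hprop i.left).1
  let cS' := cS.extend eS.inv
  have hpc := isPreconnected_inter_closure_lim I (Over.forget i₀ ⋙ DX) (Over.forget i₀ ⋙ DS)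
    (Functor.whiskerLeft (Over.forget i₀) φ) (cX.whisker (Over.forget i₀))
    ((Functor.Initial.isLimitWhiskerEquiv (Over.forget i₀) cX).symm hX)
    (cS'.whisker (Over.forget i₀)).π
    ((Functor.Initial.isLimitWhiskerEquiv (Over.forget i₀) cS').symm (hS.extendIso eS.inv))
    (eX.hom ≫ g) (fun i => (hcomp i.left).trans (by simp only [Category.assoc]; rfl)) (eX.inv x)
  have e : Zof g I ∩ closure {x} = eX.hom '' (Zof (eX.hom ≫ g) I ∩ closure {eX.inv x}) := by
    have hx : eX.hom (eX.inv x) = x := by rw [← Scheme.Hom.comp_apply, eX.inv_hom_id]; rfl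
    show _ = eX.hom '' (eX.hom ⁻¹' Zof g I ∩ _)
    rw [Set.image_preimage_inter]
    refine congrArg (Zof g I ∩ ·) ?_
    have := (Scheme.homeoOfIso eX).image_closure {eX.inv x}
    rw [Set.image_singleton] at this
    exact (this.trans (congrArg (fun y => closure {y}) hx)).symm
  rw [e]
  exact hpc.image _ eX.hom.continuous.continuousOn

/-- A scheme integral over a scheme proper over a henselian pair: closures meet the closed part
in connected sets. -/
theorem isConnected_inter_closure {A : Type u} [CommRing A] (I : Ideal A) [HenselianRing A I]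
    {X P : Scheme.{u}} (π : X ⟶ P) [IsIntegralHom π] (g : P ⟶ Spec (CommRingCat.of A)) [IsProper g] (x : X) :
    IsConnected (Zof (π ≫ g) I ∩ closure {x}) := by
  refine ⟨nonempty_inter_closure HenselianRing.jac _ (π ≫ g).isClosedMap x, ?_⟩
  haveI : CompactSpace P := QuasiCompact.compactSpace_of_compactSpace g
  haveI : QuasiSeparatedSpace P := quasiSeparatedSpace_of_quasiSeparated g
  obtain ⟨K, _, _, _, E, c₀, hc₀, hE, ⟨e₀⟩⟩ := AlgGlue.exists_finite_fp_system π
  let D : Kᵒᵖ ⥤ Scheme.{u} := E ⋙ CategoryTheory.Over.forget P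
  haveI := IsCofiltered.isConnected Kᵒᵖ
  let c : Cone D := ((CategoryTheory.Over.forget P).mapCone c₀).extend
    ((CategoryTheory.Over.forget P).mapIso e₀).inv
  let hc : IsLimit c := (isLimitOfPreserves (CategoryTheory.Over.forget P) hc₀).extendIso _
  let f : ∀ i, D.obj i ⟶ P := fun i => (E.obj i).hom
  haveI : ∀ i : Kᵒᵖ, IsFinite (f i) := fun i => (hE i).1
  haveI : ∀ {i j : Kᵒᵖ} (a : i ⟶ j), IsAffineHom (D.map a) := fun {i j} a => by
    have e : D.map a ≫ f j = f i := Over.w (E.map a)
    haveI : IsAffineHom (D.map a ≫ f j) := by rw [e]; infer_instance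
    exact IsAffineHom.of_comp (D.map a) (f j)
  haveI : ∀ i, CompactSpace (D.obj i) := fun i => QuasiCompact.compactSpace_of_compactSpace (f i)
  haveI : ∀ i, QuasiSeparatedSpace (D.obj i) := fun i => quasiSeparatedSpace_of_quasiSeparated (f i)
  let h : ∀ i, D.obj i ⟶ Spec (CommRingCat.of A) := fun i => f i ≫ g
  haveI : ∀ i, IsProper (h i) := fun i => inferInstanceAs (IsProper (f i ≫ g))
  let Z : ∀ i, Set (D.obj i) := fun i => Zof (h i) I ∩ closure {c.π.app i x}
  have hπ : ∀ i (s : X), h i (c.π.app i s) = (π ≫ g) s := fun i s => by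
    have h₁ : c.π.app i ≫ (E.obj i).hom = π := by
      show (e₀.inv.left ≫ (c₀.π.app i).left) ≫ (E.obj i).hom = π
      rw [Category.assoc, Over.w]
      exact Over.w e₀.inv
    exact (Scheme.Hom.comp_apply _ _ s).symm.trans (congrArg (fun q : X ⟶ _ => q s)
      ((Category.assoc _ _ _).symm.trans (congrArg (· ≫ g) h₁)))
  have hw : ∀ {i j : Kᵒᵖ} (a : i ⟶ j) (s : X), D.map a (c.π.app i s) = c.π.app j s := fun a s =>
    (Scheme.Hom.comp_apply _ _ s).symm.trans (congrArg (fun q : X ⟶ _ => q s) (c.w a))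
  have hT : Zof (π ≫ g) I ∩ closure {x} = {s : X | ∀ i, c.π.app i s ∈ Z i} := by
    refine Set.Subset.antisymm (fun s hs i => ⟨?_, map_mem_closure (c.π.app i).continuous hs.2
      (by rintro _ rfl; exact rfl)⟩) fun s hs => ⟨?_, ?_⟩
    · show h i (c.π.app i s) ∈ PrimeSpectrum.zeroLocus (I : Set A)
      rw [hπ]; exact hs.1
    · obtain ⟨i⟩ := (inferInstance : Nonempty Kᵒᵖ)
      show (π ≫ g) s ∈ PrimeSpectrum.zeroLocus (I : Set A)
      rw [← hπ i]; exact (hs i).1
    · refine mem_of_closure_image D c hc (C := closure ({x} : Set X)) isClosed_closure (s := s) fun i => ?_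
      refine closure_mono ?_ (hs i).2
      rintro _ rfl
      exact ⟨x, subset_closure rfl, rfl⟩
  rw [hT]
  refine isPreconnected_limit D c hc Z (fun i => (isClosed_Zof (h i) I).inter isClosed_closure)
    (fun {i j} a z hz => ⟨?_, map_mem_closure (D.map a).continuous hz.2 (by rintro _ rfl; exact hw a x)⟩) fun i => ?_
  · show h j (D.map a z) ∈ PrimeSpectrum.zeroLocus (I : Set A)
    have : h j (D.map a z) = h i z := (Scheme.Hom.comp_apply _ _ z).symm.trans (congrArg (fun q : D.obj i ⟶ _ => q z)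
      ((Category.assoc _ _ _).symm.trans (congrArg (· ≫ g) (Over.w (E.map a)))))
    rw [this]; exact hz.1
  · exact ⟨Z i, isPreconnected_inter_closure_proper I (h i) _, subset_rfl, fun s hs => hs i⟩

/-- The case of a proper scheme. -/
theorem isConnected_inter_closure_proper {A : Type u} [CommRing A] (I : Ideal A) [HenselianRing A I]
    {P : Scheme.{u}} (g : P ⟶ Spec (CommRingCat.of A)) [IsProper g] (x : P) :
    IsConnected (Zof g I ∩ closure {x}) :=
  ⟨nonempty_inter_closure HenselianRing.jac _ g.isClosedMap x, isPreconnected_inter_closure_proper I g x⟩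

end Groth.Agent.EtH0Lib
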