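import Groth.Agent.AICCover.Scheme
import Groth.Agent.Hensel.IntegralStrict
import Groth.Agent.Hensel.HenselizationProps
import Groth.Prelude.Def_EtBase
import Groth.Prelude.Def_SGA4b

/-!
# The absolutely integrally closed cover has strictly henselian local rings
-/

set_option autoImplicit false
set_option linter.style.haveILetI false

universe u

open CategoryTheory CategoryTheory.Limits AlgebraicGeometry Polynomial IsLocalRing

namespace Groth.Agent.EtH0Lib

theorem isStrictlyHenselian_congr {A B : Type u} [CommRing A] [CommRing B] (e : A ≃+* B)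
    (h : EtCoh.IsStrictlyHenselianLocalRing A) : EtCoh.IsStrictlyHenselianLocalRing B := by
  obtain ⟨_, hs⟩ := h
  haveI : IsLocalRing B := e.isLocalRing
  refine ⟨Hensel.henselianLocalRing_of_ringEquiv e, ?_⟩
  let e' := ResidueField.mapEquiv e
  refine IsSepClosed.of_exists_root _ fun p _ hp hs' => ?_
  obtain ⟨x, hx⟩ := IsSepClosed.exists_root (p.map e'.symm.toRingHom)
    (by rw [Polynomial.degree_map]; exact (Polynomial.degree_pos_of_irreducible hp).ne') hs'.map
  refine ⟨e' x, e'.symm.injective ?_⟩
  rw [map_zero, ← hx]
  change e'.symm.toRingHom (p.eval (e' x)) = _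
  rw [← Polynomial.eval_map_apply]
  simp

theorem splits_of_isAIC {R : Type u} [CommRing R] (h : Curves.IsAIC R) (f : R[X]) (hf : f.Monic) :
    ∃ s : Multiset R, f = (s.map fun a => X - C a).prod := by
  rcases subsingleton_or_nontrivial R with hR | hR
  · exact ⟨0, Subsingleton.elim _ _⟩
  induction hn : f.natDegree generalizing f with
  | zero => exact ⟨0, by simpa using hf.natDegree_eq_zero.1 hn⟩
  | succ n ih =>
    obtain ⟨r, hr⟩ := h f hf (by omega)
    obtain ⟨g, rfl⟩ := dvd_iff_isRoot.2 hr
    have hg : g.Monic := (monic_X_sub_C r).of_mul_monic_left hf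
    rw [(monic_X_sub_C r).natDegree_mul hg, natDegree_X_sub_C] at hn
    obtain ⟨s, hs⟩ := ih g hg (by omega)
    exact ⟨r ::ₘ s, by rw [Multiset.map_cons, Multiset.prod_cons, ← hs]⟩

/-- The local rings of the cover are strictly henselian. -/
theorem isStrictlyHenselian_total (X : Scheme.{u}) (t : AICCover.total X) :
    EtCoh.IsStrictlyHenselianLocalRing ((AICCover.total X).presheaf.stalk t) := by
  obtain ⟨U, P, hP⟩ := (AICCover.glueData X).cover.exists_eq t
  subst hP
  let B := AICCover.cl X U.1
  change PrimeSpectrum B at P
  let j : Spec (CommRingCat.of B) ⟶ AICCover.total X := (AICCover.glueData X).cover.f U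
  haveI : IsOpenImmersion j := inferInstanceAs (IsOpenImmersion ((AICCover.glueData X).cover.f U))
  let P' : Spec (CommRingCat.of B) := P
  haveI : IsIso (j.stalkMap P') := inferInstance
  let e : (AICCover.total X).presheaf.stalk (j P') ≅ CommRingCat.of (Localization.AtPrime P.asIdeal) :=
    asIso (j.stalkMap P') ≪≫ Spec.stalkIso (CommRingCat.of B) P'
  exact isStrictlyHenselian_congr e.commRingCatIsoToRingEquiv.symm
    (Hensel.strictlyHenselian_localization_of_split (splits_of_isAIC (AICCover.isAIC_cl X U.1)) P.asIdeal)

/-- Surjective integral morphisms are universally submersive. -/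
theorem isUnivSubmersive_of_integral {X' X : Scheme.{u}} (f : X' ⟶ X) [IsIntegralHom f] [Surjective f] :
    EtDesc.IsUnivSubmersive f := fun Y g => by
  haveI : IsIntegralHom (pullback.snd f g) := MorphismProperty.pullback_snd (P := @IsIntegralHom) f g inferInstance
  haveI : Surjective (pullback.snd f g) := MorphismProperty.pullback_snd (P := @Surjective) f g inferInstance
  exact ⟨(pullback.snd f g).surjective,
    (pullback.snd f g).isClosedMap.isQuotientMap (pullback.snd f g).continuous (pullback.snd f g).surjective⟩

end Groth.Agent.EtH0Lib
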