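import Groth.Agent.EtH0Lib.Spectral
import Groth.Agent.BigSiteLib.EtDescSec.Main
import Groth.Agent.BigSiteLib.EtDescSec.Sub
import Groth.Agent.BigSiteLib.EtZarCmp
import Mathlib.AlgebraicGeometry.Morphisms.QuasiFinite
import Mathlib.AlgebraicGeometry.Morphisms.FormallyUnramified

/-!
# Etale sheaves of sets and closed subschemes meeting closures connectedly
-/

set_option autoImplicit false
set_option linter.style.haveILetI false

universe u

open CategoryTheory CategoryTheory.Limits AlgebraicGeometry Opposite TopologicalSpace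
open Groth.Agent.BigSiteLib.DescSec

namespace Groth.Agent.EtH0Lib

set_option backward.isDefEq.respectTransparency.types false

variable {X : Scheme.{u}}

theorem locallyQuasiFinite_of_etale {U : Scheme.{u}} (f : U ⟶ X) [Etale f] : LocallyQuasiFinite f := by
  rw [HasRingHomProperty.iff_appLE (P := @LocallyQuasiFinite)]
  intro V W e
  have h1 := HasRingHomProperty.appLE @FormallyUnramified f inferInstance V W e
  have h2 := HasRingHomProperty.appLE @LocallyOfFiniteType f inferInstance V W e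
  algebraize [(f.appLE V.1 W.1 e).hom]
  have : Algebra.QuasiFinite Γ(X, V) Γ(U, W) := inferInstance
  exact this

theorem hom_ofOpen_ext {W : X.Opens} {Y : X.Etale} (p q : Y ⟶ EtDesc.ofOpen W) : p = q :=
  MorphismProperty.Over.Hom.ext ((cancel_mono W.ι).1
    ((MorphismProperty.Over.w p).trans (MorphismProperty.Over.w q).symm))

/-- Inclusion of opens. -/
noncomputable def oMap {V W : X.Opens} (h : V ≤ W) : EtDesc.ofOpen V ⟶ EtDesc.ofOpen W :=
  MorphismProperty.Over.homMk (X.homOfLE h) (Scheme.homOfLE_ι X h)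

theorem oMap_left {V W : X.Opens} (h : V ≤ W) (x : V.toScheme) : ((oMap h).left x).1 = x.1 :=
  (Scheme.Hom.comp_apply (X.homOfLE h) W.ι x).symm.trans
    (congrArg (fun q : V.toScheme ⟶ X => q x) (Scheme.homOfLE_ι X h))

theorem toTop_left_apply (U : X.Etale) (u : U.left) : (toTop U).left u = U.hom u :=
  (congrArg (fun q : U.left ⟶ X => q u)
    ((MorphismProperty.Over.w (toTop U)).symm.trans (Category.comp_id _)).symm : _)

theorem exists_factor {W : X.Opens} {Y : X.Etale} (h : ∀ y, Y.hom y ∈ W) : Nonempty (Y ⟶ EtDesc.ofOpen W) := by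
  have hr : Set.range Y.hom ⊆ Set.range W.ι := by
    rintro _ ⟨y, rfl⟩
    rw [Scheme.Opens.range_ι]
    exact h y
  haveI : IsOpenImmersion W.ι := inferInstance
  let l : Y.left ⟶ W.toScheme := IsOpenImmersion.lift W.ι Y.hom hr
  have hl : l ≫ W.ι = Y.hom := IsOpenImmersion.lift_fac _ _ _
  exact ⟨MorphismProperty.Over.homMk l hl⟩

variable (F : EtDesc.Sh X)

/-- Restriction between opens. -/
noncomputable abbrev res {V W : X.Opens} (h : V ≤ W) (t : F.obj.obj (op (EtDesc.ofOpen W))) :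
    F.obj.obj (op (EtDesc.ofOpen V)) := F.obj.map (oMap h).op t

theorem res_res {U V W : X.Opens} (h : U ≤ V) (h' : V ≤ W) (t : F.obj.obj (op (EtDesc.ofOpen W))) :
    res F h (res F h' t) = res F (h.trans h') t :=
  (mapF F.obj _ _ t).trans (congrArg (fun k : EtDesc.ofOpen U ⟶ EtDesc.ofOpen W => F.obj.map k.op t) (hom_ofOpen_ext _ _))

/-- Sections agreeing on an open neighbourhood. -/
def Agree {W W' : X.Opens} (t : F.obj.obj (op (EtDesc.ofOpen W))) (t' : F.obj.obj (op (EtDesc.ofOpen W'))) (x : X) : Prop :=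
  ∃ (V : X.Opens) (h : V ≤ W) (h' : V ≤ W'), x ∈ V ∧ res F h t = res F h' t'

theorem agree_iff_locEq {W W' : X.Opens} (t : F.obj.obj (op (EtDesc.ofOpen W))) (t' : F.obj.obj (op (EtDesc.ofOpen W')))
    (x : (W ⊓ W' : X.Opens).toScheme) :
    Agree F t t' x.1 ↔ LocEq F.obj (res F inf_le_left t) (res F inf_le_right t') x := by
  constructor
  · rintro ⟨V, h, h', hx, e⟩
    refine ⟨_, oMap (le_inf h h'), ⟨⟨x.1, hx⟩, Subtype.ext (oMap_left _ _)⟩, ?_⟩
    exact (res_res F _ _ t).trans (e.trans (res_res F _ _ t').symm)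
  · intro hx
    let L : Set (W ⊓ W' : X.Opens).toScheme := {y | LocEq F.obj (res F inf_le_left t) (res F inf_le_right t') y}
    let V : X.Opens := (W ⊓ W' : X.Opens).ι ''ᵁ ⟨L, isOpen_locEq (P := F.obj) (res F inf_le_left t) (res F inf_le_right t')⟩
    have hV : V ≤ W ⊓ W' := (W ⊓ W' : X.Opens).ι_image_le _
    refine ⟨V, hV.trans inf_le_left, hV.trans inf_le_right, ⟨x, hx, rfl⟩, ?_⟩
    rw [← res_res F hV inf_le_left t, ← res_res F hV inf_le_right t']
    refine eq_of_locEq F fun y => LocEq.map _ ?_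
    obtain ⟨y', hy', e⟩ := y.2
    have : (oMap hV).left y = y' := Subtype.ext ((oMap_left hV y).trans e.symm)
    exact this ▸ hy'

theorem Agree.symm' {W W' : X.Opens} {t : F.obj.obj (op (EtDesc.ofOpen W))} {t' : F.obj.obj (op (EtDesc.ofOpen W'))}
    {x : X} (h : Agree F t t' x) : Agree F t' t x := by
  obtain ⟨V, a, b, hx, e⟩ := h
  exact ⟨V, b, a, hx, e.symm⟩

theorem Agree.trans' {W₁ W₂ W₃ : X.Opens} {t₁ : F.obj.obj (op (EtDesc.ofOpen W₁))}
    {t₂ : F.obj.obj (op (EtDesc.ofOpen W₂))} {t₃ : F.obj.obj (op (EtDesc.ofOpen W₃))} {x : X}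
    (h : Agree F t₁ t₂ x) (h' : Agree F t₂ t₃ x) : Agree F t₁ t₃ x := by
  obtain ⟨V, a, b, hx, e⟩ := h
  obtain ⟨V', b', c, hx', e'⟩ := h'
  refine ⟨V ⊓ V', inf_le_left.trans a, inf_le_right.trans c, ⟨hx, hx'⟩, ?_⟩
  rw [← res_res F inf_le_left a, e, res_res, ← res_res F inf_le_right c, ← e', res_res]

/-- Gluing from a closed subset meeting the closures connectedly. -/
theorem exists_global [SpectralSpace X] (Z : Set X) (hZ : IsClosed Z) (hconn : ∀ x : X, IsConnected (Z ∩ closure {x}))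
    {ι : Type u} (idx : Z → ι) (W : ι → X.Opens) (hW : ∀ z : Z, z.1 ∈ W (idx z))
    (t : ∀ a, F.obj.obj (op (EtDesc.ofOpen (W a))))
    (hagree : ∀ a b, ∀ y ∈ Z, y ∈ W a → y ∈ W b → Agree F (t a) (t b) y) :
    ∃ g : F.obj.obj (op (EtCoh.top X)), ∀ z : Z, ∃ (V : X.Opens) (h : V ≤ W (idx z)), z.1 ∈ V ∧
      F.obj.map (toTop (EtDesc.ofOpen V)).op g = res F h (t (idx z)) := by
  let E : ι → ι → X.Opens := fun a b => ⟨{x | Agree F (t a) (t b) x}, isOpen_iff_forall_mem_open.2
    fun x ⟨V, h, h', hx, e⟩ => ⟨V, fun y hy => ⟨V, h, h', hy, e⟩, V.isOpen, hx⟩⟩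
  obtain ⟨O, hO, hcov, hOE⟩ := exists_shrink Z hZ hconn idx W hW E (fun a b x h => Agree.symm' F h)
    (fun a b c x h => Agree.trans' F h.1 h.2) hagree
  have hsieve : Sieve.generate (Presieve.ofArrows (fun z : Z => EtDesc.ofOpen (O z)) (fun z => toTop _)) ∈
      X.smallEtaleTopology (EtCoh.top X) := by
    rw [EtFound.mem_topology_iff]
    intro x
    obtain ⟨z, hz⟩ := Opens.mem_iSup.1 (hcov.ge (Set.mem_univ (show X from x)))
    exact ⟨EtDesc.ofOpen (O z), toTop _, ⟨x, hz⟩, ⟨_, 𝟙 _, _, ⟨z⟩, Category.id_comp _⟩, toTop_left_apply _ _⟩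
  obtain ⟨g, hg, -⟩ := (Presieve.isSheafFor_arrows_iff _ _).1 ((Presieve.isSheafFor_iff_generate _).2
    (((isSheaf_iff_isSheaf_of_type _ _).1 F.property) _ hsieve)) (fun z => res F (hO z).2 (t (idx z)))
    fun a b Y p q _ => by
      have hy : ∀ {W : X.Opens} (k : Y ⟶ EtDesc.ofOpen W) y, Y.hom y ∈ W := fun {W} k y => by
        rw [← MorphismProperty.Over.w k, Scheme.Hom.comp_apply]
        exact (k.left y).2
      obtain ⟨l⟩ := exists_factor (W := O a ⊓ O b) (Y := Y) fun y => ⟨hy p y, hy q y⟩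
      rw [hom_ofOpen_ext p (l ≫ oMap inf_le_left), hom_ofOpen_ext q (l ≫ oMap inf_le_right), ← mapF, ← mapF]
      refine congrArg _ (eq_of_locEq F fun x => ?_)
      obtain ⟨V, h, h', hx, e⟩ := hOE a b x.2
      refine ⟨EtDesc.ofOpen (V ⊓ (O a ⊓ O b)), oMap inf_le_right, ⟨⟨x.1, hx, x.2⟩, Subtype.ext (oMap_left _ _)⟩, ?_⟩
      show res F _ (res F _ (res F _ (t (idx a)))) = res F _ (res F _ (res F _ (t (idx b))))
      rw [res_res, res_res, res_res, res_res, ← res_res F inf_le_left h, e, res_res]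
  exact ⟨g, fun z => ⟨O z, (hO z).2, (hO z).1, hg z⟩⟩

variable {F} {T : Scheme.{u}} (i : T ⟶ X)

theorem map_toTop_secPull (U : X.Etale) (s : F.obj.obj (op (EtCoh.top X))) :
    ((EtDesc.pullSh i).obj F).obj.map (toTop ((EtCoh.bc i).obj U)).op (EtDesc.secPull i F s) =
      up i F U (F.obj.map (toTop U).op s) := by
  rw [up_map, EtDesc.secPull, mapF]
  exact congrArg (fun k : (EtCoh.bc i).obj U ⟶ (EtCoh.bc i).obj (EtCoh.top X) =>
    ((EtDesc.pullSh i).obj F).obj.map k.op _) ((EtCore.bcTopIsTerminal i).hom_ext _ _)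

/-- Global sections are determined on a subscheme meeting every closure. -/
theorem secPull_injective_of_meets (hmeet : ∀ x : X, ∃ z : T, x ⤳ i z) :
    Function.Injective (EtDesc.secPull i F) := by
  intro s t h
  refine eq_of_locEq F fun x => ?_
  obtain ⟨z, hz⟩ := hmeet (show X from x)
  have hz₀ : LocEq F.obj s t (show (EtCoh.top X).left from i z) := by
    obtain ⟨z', hz'₁, -⟩ := Scheme.Pullback.exists_preimage_pullback (f := (EtCoh.top X).hom) (g := i)
      (show (EtCoh.top X).left from i z) z rfl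
    have h' := congrArg (((EtDesc.pullSh i).obj F).obj.map (EtCore.bcTopIso i).hom.op) h
    simp only [EtDesc.secPull, mapF, Iso.hom_inv_id, op_id, CategoryTheory.Functor.map_id] at h'
    have e : up i F (EtCoh.top X) s = up i F (EtCoh.top X) t := h'
    have := locEq_of_up i F (a := s) (b := t) (z := z') (by rw [e]; exact LocEq.refl _ _)
    rwa [show pr i (EtCoh.top X) z' = i z from hz'₁] at this
  exact hz.mem_open (isOpen_locEq s t) hz₀

/-- Local lifting of sections along a closed immersion into a scheme with strictly henselian local rings. -/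
theorem exists_local_lift [IsClosedImmersion i]
    (hS : ∀ x : X, EtCoh.IsStrictlyHenselianLocalRing (X.presheaf.stalk x))
    (s : ((EtDesc.pullSh i).obj F).obj.obj (op (EtCoh.top T))) (z : T) :
    ∃ (W : X.Opens) (a : F.obj.obj (op (EtDesc.ofOpen W))), i z ∈ W ∧
      up i F (EtDesc.ofOpen W) a = ((EtDesc.pullSh i).obj F).obj.map (toTop _).op s := by
  obtain ⟨U, a, w, m, hw, h⟩ := exists_locEq_up i F s z
  rw [(EtCore.topIsTerminal T).hom_ext m (toTop _)] at h
  haveI : Etale U.hom := U.prop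
  let v := pr i U w
  have hv : U.hom v = i z := by
    rw [← hw]
    exact ((Scheme.Hom.comp_apply _ _ _).symm.trans
      (congrArg (fun q : pullback U.hom i ⟶ X => q w) pullback.condition)).trans (Scheme.Hom.comp_apply _ _ _)
  obtain ⟨O', hO', hO'v⟩ : ∃ O' : Set U.left, IsOpen O' ∧ O' ∩ U.hom ⁻¹' {U.hom v} = {v} := by
    haveI := locallyQuasiFinite_of_etale U.hom
    haveI := (U.hom.isDiscrete_preimage_singleton (U.hom v)).to_subtype
    obtain ⟨O', hO', e⟩ := isOpen_induced_iff.1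
      (isOpen_discrete ({⟨v, rfl⟩} : Set (U.hom ⁻¹' {U.hom v})))
    refine ⟨O', hO', Set.Subset.antisymm (fun y hy => ?_) ?_⟩
    · exact congrArg Subtype.val ((Set.ext_iff.1 e ⟨y, hy.2⟩).1 hy.1 : (⟨y, hy.2⟩ : U.hom ⁻¹' {U.hom v}) = ⟨v, rfl⟩)
    · rintro _ rfl
      exact ⟨(Set.ext_iff.1 e ⟨_, rfl⟩).2 rfl, rfl⟩
  let O : U.left.Opens := ⟨O', hO'⟩
  have hvO : v ∈ O := (hO'v.symm.subset rfl).1
  obtain ⟨W, σ, hW, hσ⟩ := BigSiteLib.exists_open_section hS (O.ι ≫ U.hom) ⟨v, hvO⟩
  replace hW : i z ∈ W := by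
    rw [← hv]
    rw [Scheme.Hom.comp_apply] at hW
    exact hW
  let k : EtDesc.ofOpen W ⟶ U := MorphismProperty.Over.homMk (σ ≫ O.ι) ((Category.assoc _ _ _).trans hσ)
  let R := ((EtDesc.pullSh i).obj F).obj
  let b := F.obj.map k.op a
  let L : Set ((EtCoh.bc i).obj (EtDesc.ofOpen W)).left := {y | LocEq R (up i F _ b) (R.map (toTop _).op s) y}
  haveI : IsClosedImmersion (pr i U) := MorphismProperty.pullback_fst (P := @IsClosedImmersion) _ _ inferInstance
  haveI : IsClosedImmersion (pr i (EtDesc.ofOpen W)) :=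
    MorphismProperty.pullback_fst (P := @IsClosedImmersion) _ _ inferInstance
  obtain ⟨V', hV'o, hV'⟩ := (pr i (EtDesc.ofOpen W)).isClosedEmbedding.isInducing.isOpen_iff.1
    (isOpen_locEq (P := R) (up i F _ b) (R.map (toTop _).op s))
  let V : X.Opens := W.ι ''ᵁ ⟨V', hV'o⟩
  have hVW : V ≤ W := W.ι_image_le _
  refine ⟨V, res F hVW b, ⟨⟨i z, hW⟩, ?_, rfl⟩, ?_⟩
  · obtain ⟨w', hw', -⟩ := Scheme.Pullback.exists_preimage_pullback (f := (EtDesc.ofOpen W).hom) (g := i)
      (⟨i z, hW⟩ : W.toScheme) z rfl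
    have hk : ((EtCoh.bc i).map k).left w' = w := by
      refine (pr i U).isClosedEmbedding.injective ?_
      rw [pr_map, show pr i (EtDesc.ofOpen W) w' = ⟨i z, hW⟩ from hw']
      have h1 : k.left (⟨i z, hW⟩ : W.toScheme) ∈ O' ∩ U.hom ⁻¹' {U.hom v} := by
        refine ⟨?_, ?_⟩
        · show O.ι (σ ⟨i z, hW⟩) ∈ O'
          exact (σ ⟨i z, hW⟩).2
        · show U.hom (k.left (⟨i z, hW⟩ : W.toScheme)) = U.hom v
          rw [← Scheme.Hom.comp_apply, MorphismProperty.Over.w k, hv]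
          rfl
      rw [hO'v] at h1
      exact h1
    have h' : LocEq R (up i F _ b) (R.map (toTop _).op s) w' := by
      rw [← hk] at h
      have := h.map ((EtCoh.bc i).map k)
      rwa [← up_map, map_toTop] at this
    exact hw' ▸ ((Set.ext_iff.1 hV' w').2 h' : pr i (EtDesc.ofOpen W) w' ∈ V')
  · refine eq_of_locEq _ fun y => ?_
    rw [up_map, ← map_toTop ((EtDesc.pullSh i).obj F) ((EtCoh.bc i).map (oMap hVW)) s]
    refine LocEq.map _ ((Set.ext_iff.1 hV' _).1 ?_)
    show pr i (EtDesc.ofOpen W) (((EtCoh.bc i).map (oMap hVW)).left y) ∈ V'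
    rw [pr_map]
    obtain ⟨y', hy', e⟩ := (pr i (EtDesc.ofOpen V) y).2
    have : (oMap hVW).left (pr i (EtDesc.ofOpen V) y) = y' := Subtype.ext ((oMap_left hVW _).trans e.symm)
    rw [this]; exact hy'

/-- Global sections of a sheaf of sets on a scheme with strictly henselian local rings and on a closed
subscheme meeting the closures connectedly. -/
theorem bijective_secPull_of_strictlyHenselian [SpectralSpace X] [IsClosedImmersion i]
    (hconn : ∀ x : X, IsConnected (Set.range i ∩ closure {x}))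
    (hS : ∀ x : X, EtCoh.IsStrictlyHenselianLocalRing (X.presheaf.stalk x)) :
    Function.Bijective (EtDesc.secPull i F) := by
  refine ⟨secPull_injective_of_meets i fun x => ?_, fun s => ?_⟩
  · obtain ⟨_, ⟨z, rfl⟩, hz⟩ := (hconn x).nonempty
    exact ⟨z, specializes_iff_mem_closure.2 hz⟩
  choose W a hW ha using exists_local_lift (F := F) i hS s
  choose idx hidx using fun z : Set.range i => z.2
  obtain ⟨g, hg⟩ := exists_global F (Set.range i) i.isClosedEmbedding.isClosed_range hconn idx W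
    (fun z => hidx z ▸ hW (idx z)) a fun z₁ z₂ y hy h₁ h₂ => by
      obtain ⟨z₀, rfl⟩ := hy
      let V : X.Opens := W z₁ ⊓ W z₂
      obtain ⟨w, hw, -⟩ := Scheme.Pullback.exists_preimage_pullback (f := (EtDesc.ofOpen V).hom) (g := i)
        (⟨i z₀, h₁, h₂⟩ : V.toScheme) z₀ rfl
      refine (agree_iff_locEq F (a z₁) (a z₂) ⟨i z₀, h₁, h₂⟩).2 ?_
      have key : ∀ {z : T} (h : V ≤ W z), up i F (EtDesc.ofOpen V) (res F h (a z)) =
          ((EtDesc.pullSh i).obj F).obj.map (toTop _).op s := fun {z} h => by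
        rw [up_map, ha, map_toTop]
      have := locEq_of_up i F (z := w) (a := res F inf_le_left (a z₁)) (b := res F inf_le_right (a z₂))
        (by rw [key inf_le_left, key inf_le_right]; exact LocEq.refl _ _)
      rwa [show pr i (EtDesc.ofOpen V) w = (⟨i z₀, h₁, h₂⟩ : V.toScheme) from hw] at this
  refine ⟨g, eq_of_locEq _ fun z => ?_⟩
  obtain ⟨V, hVW, hzV, e⟩ := hg ⟨i (show T from z), ⟨_, rfl⟩⟩
  obtain ⟨w, -, hwz⟩ := Scheme.Pullback.exists_preimage_pullback (f := (EtDesc.ofOpen V).hom) (g := i)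
    (⟨_, hzV⟩ : V.toScheme) (show T from z) rfl
  rw [show z = (toTop ((EtCoh.bc i).obj (EtDesc.ofOpen V))).left w from ((toTop_left_apply _ _).trans hwz).symm]
  refine LocEq.of_map _ ?_
  rw [map_toTop_secPull, e, up_map, ha, map_toTop]
  exact LocEq.refl _ _

end Groth.Agent.EtH0Lib
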