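import Groth.Agent.EtH0Lib.LimConn
import Groth.Agent.AlgGlue.FiniteModels
import Groth.Agent.EtH0Lib.ProperConn
import Mathlib.Topology.Sheaves.LocalPredicate
import Mathlib.Topology.Sheaves.Functors

/-!
# Gabber's criterion: the topological input
-/

set_option autoImplicit false
set_option linter.style.haveILetI false

universe u

open CategoryTheory CategoryTheory.Limits AlgebraicGeometry TopologicalSpace Opposite

namespace Groth.Agent.EtH0Lib

/-- Two-valued continuous functions. -/
abbrev boolTop : TopCat.{u} := TopCat.of (ULift.{u} Bool)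

/-- If every sheaf has the same sections on a preconnected space and on a closed subspace, then the
subspace is connected. -/
theorem isConnected_of_bijective_sections {Y : TopCat.{u}} [PreconnectedSpace Y] [Nonempty Y] (Z : Set Y)
    (h : ∀ F : TopCat.Sheaf (Type u) Y, Function.Bijective
      (((TopCat.Sheaf.pullbackPushforwardAdjunction (Type u)
        (TopCat.ofHom ⟨(Subtype.val : Z → Y), continuous_subtype_val⟩)).unit.app F).hom.app (op ⊤))) :
    IsConnected Z := by
  let ι : TopCat.of Z ⟶ Y := TopCat.ofHom ⟨(Subtype.val : Z → Y), continuous_subtype_val⟩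
  let F : TopCat.Sheaf (Type u) Y := TopCat.sheafToTop boolTop
  let adj := TopCat.Sheaf.pullbackPushforwardAdjunction (Type u) ι
  let F' : TopCat.Sheaf (Type u) (TopCat.of Z) := TopCat.sheafToTop boolTop
  let ψ : F ⟶ (TopCat.Sheaf.pushforward (Type u) ι).obj F' :=
    ⟨{ app := fun U => ↾fun g => TopCat.ofHom
          ⟨fun z => (show (Opens.toTopCat Y).obj U.unop ⟶ boolTop from g) ⟨ι z.1, z.2⟩,
          (show (Opens.toTopCat Y).obj U.unop ⟶ boolTop from g).hom.continuous.comp
            ((ι.hom.continuous.comp continuous_subtype_val).subtype_mk _)⟩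
       naturality := fun U V a => rfl }⟩
  let G := (TopCat.Sheaf.pullback (Type u) ι).obj F
  let φ : G ⟶ F' := (adj.homEquiv F F').symm ψ
  have hφ : adj.unit.app F ≫ (TopCat.Sheaf.pushforward (Type u) ι).map φ = ψ :=
    (adj.homEquiv_unit F F' φ).symm.trans (Equiv.apply_symm_apply _ _)
  let η : F.obj.obj (op ⊤) → G.obj.obj (op ⊤) := (adj.unit.app F).hom.app (op ⊤)
  have hη : ∀ c, φ.hom.app (op ⊤) (η c) = ψ.hom.app (op ⊤) c := fun c =>
    congrArg (fun q : F ⟶ _ => q.hom.app (op ⊤) c) hφ
  have hbij : Function.Bijective η := h F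
  let cst : Bool → F.obj.obj (op ⊤) := fun b => TopCat.ofHom ⟨fun _ => ULift.up b, continuous_const⟩
  let ev : F.obj.obj (op ⊤) → Y → Bool := fun g y =>
    ((show (Opens.toTopCat Y).obj ⊤ ⟶ boolTop from g) ⟨y, trivial⟩).down
  have hne : Z.Nonempty := by
    by_contra hE
    haveI : IsEmpty Z := Set.isEmpty_coe_sort.2 (Set.not_nonempty_iff_eq_empty.1 hE)
    have : η (cst true) = η (cst false) :=
      TopCat.Sheaf.eq_of_locally_eq' G (fun e : PEmpty.{u+1} => e.elim) ⊤ (fun e => e.elim)
        (fun z _ => isEmptyElim (show (Z : Type u) from z)) _ _ fun e => e.elim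
    have h₂ : cst true = cst false := hbij.1 this
    have : true = false := congrFun (congrArg ev h₂) (Classical.arbitrary Y)
    exact absurd this (by decide)
  refine ⟨hne, ?_⟩
  rw [isPreconnected_iff_preconnectedSpace, preconnectedSpace_iff_clopen]
  intro A hA
  by_contra! hne₂
  obtain ⟨a, ha⟩ := hne₂.1
  obtain ⟨b, hb⟩ := (Set.ne_univ_iff_exists_notMem A).1 hne₂.2
  let U : Bool → Opens (TopCat.of Z) := fun q => bif q then ⟨A, hA.isOpen⟩ else ⟨Aᶜ, hA.isClosed.isOpen_compl⟩
  let res : ∀ q, U q ⟶ ⊤ := fun q => homOfLE le_top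
  let sf : ∀ q : Bool, G.obj.obj (op (U q)) := fun q => G.obj.map (res q).op (η (cst q))
  have hcomp : TopCat.Presheaf.IsCompatible G.obj U sf := by
    intro p q
    by_cases hpq : p = q
    · subst hpq; rfl
    · refine TopCat.Sheaf.eq_of_locally_eq' G (fun e : PEmpty.{u+1} => e.elim) _ (fun e => e.elim)
        (fun z hz => ?_) _ _ fun e => e.elim
      cases p <;> cases q
      · exact absurd rfl hpq
      · exact absurd hz.2 hz.1
      · exact absurd hz.1 hz.2
      · exact absurd rfl hpq
  have hcov : (⊤ : Opens (TopCat.of Z)) ≤ iSup U := fun z _ => by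
    refine Opens.mem_iSup.2 ?_
    by_cases hz : z ∈ A
    · exact ⟨true, hz⟩
    · exact ⟨false, hz⟩
  obtain ⟨t, ht, -⟩ := TopCat.Sheaf.existsUnique_gluing' G U ⊤ res hcov sf hcomp
  obtain ⟨c, hc⟩ := hbij.2 t
  have key : ∀ (q : Bool) (z : Z), z ∈ U q → ev c z.1 = q := fun q z hz => by
    have h₁ : φ.hom.app (op (U q)) (G.obj.map (res q).op (η c)) =
        φ.hom.app (op (U q)) (G.obj.map (res q).op (η (cst q))) := by rw [hc]; exact congrArg _ (ht q)
    rw [NatTrans.naturality_apply φ.hom, NatTrans.naturality_apply φ.hom, hη, hη] at h₁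
    exact congrArg (fun g : F'.obj.obj (op (U q)) =>
      ((show (Opens.toTopCat (TopCat.of Z)).obj (U q) ⟶ boolTop from g) ⟨z, hz⟩).down) h₁
  have hc' : Continuous (ev c) :=
    continuous_uliftDown.comp ((show (Opens.toTopCat Y).obj ⊤ ⟶ boolTop from c).hom.continuous.comp
      (continuous_id.subtype_mk _))
  have := (PreconnectedSpace.constant ‹_› hc' (x := a.1) (y := b.1))
  rw [key true a ha, key false b hb] at this
  exact absurd this (by decide)

/-- The topological hypothesis of Gabber's criterion gives connectedness on integral schemes. -/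
theorem isConnected_preimage_inter_closure {X Z : Scheme.{u}} [CompactSpace X] [QuasiSeparatedSpace X]
    (i : Z ⟶ X) [IsClosedImmersion i]
    (h2 : ∀ (X' : Scheme.{u}) (π : X' ⟶ X) [IsFinite π] (F : TopCat.Sheaf (Type u) X'.carrier),
      Function.Bijective
      (((TopCat.Sheaf.pullbackPushforwardAdjunction (Type u)
        (TopCat.ofHom ⟨(Subtype.val : (Set.range (pullback.snd i π)) → X'), continuous_subtype_val⟩)).unit.app F).hom.app (op ⊤)))
    {P : Scheme.{u}} (π : P ⟶ X) [IsIntegralHom π] (x : P) :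
    IsConnected (π ⁻¹' Set.range i ∩ closure {x}) := by
  have hfin : ∀ {Q : Scheme.{u}} (p : Q ⟶ X) [IsFinite p] (q : Q),
      IsConnected (p ⁻¹' Set.range i ∩ closure {q}) := fun {Q} p _ q => by
    let K := Scheme.IdealSheafData.vanishingIdeal ⟨closure ({q} : Set Q), isClosed_closure⟩
    let j := K.subschemeι
    have hj : Set.range j = closure {q} := by
      show Set.range (Scheme.IdealSheafData.subschemeι _) = _
      rw [Scheme.IdealSheafData.range_subschemeι]; simp [K]
    haveI : PreconnectedSpace K.subscheme := ⟨by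
      rw [← j.isClosedEmbedding.isInducing.isPreconnected_image, Set.image_univ, hj]
      exact isPreconnected_singleton.closure⟩
    obtain ⟨q', -⟩ := hj.symm.subset (subset_closure (Set.mem_singleton q))
    haveI : Nonempty K.subscheme := ⟨q'⟩
    have hc := isConnected_of_bijective_sections (Y := K.subscheme.carrier) _ (h2 _ (j ≫ p))
    have e : p ⁻¹' Set.range i ∩ closure {q} = j '' Set.range (pullback.snd i (j ≫ p)) := by
      rw [Scheme.Pullback.range_snd, ← hj, ← Set.image_preimage_eq_inter_range]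
      rfl
    rw [e]
    exact hc.image _ j.continuous.continuousOn
  refine ⟨?_, ?_⟩
  · obtain ⟨z, hzi, hz⟩ := (hfin (𝟙 X) (π x)).nonempty
    have hsub : closure {π x} ⊆ π '' closure {x} := by
      rw [← Set.image_singleton (f := fun p => π p)]
      exact π.isClosedMap.closure_image_subset _
    obtain ⟨y, hy, rfl⟩ := hsub hz
    exact ⟨y, hzi, hy⟩
  obtain ⟨K, _, _, _, E, c₀, hc₀, hE, ⟨e₀⟩⟩ := AlgGlue.exists_finite_fp_system π
  let D : Kᵒᵖ ⥤ Scheme.{u} := E ⋙ CategoryTheory.Over.forget X
  haveI := IsCofiltered.isConnected Kᵒᵖ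
  let c : Cone D := ((CategoryTheory.Over.forget X).mapCone c₀).extend
    ((CategoryTheory.Over.forget X).mapIso e₀).inv
  let hc : IsLimit c := (isLimitOfPreserves (CategoryTheory.Over.forget X) hc₀).extendIso _
  let f : ∀ k, D.obj k ⟶ X := fun k => (E.obj k).hom
  haveI : ∀ k : Kᵒᵖ, IsFinite (f k) := fun k => (hE k).1
  haveI : ∀ {k l : Kᵒᵖ} (a : k ⟶ l), IsAffineHom (D.map a) := fun {k l} a => by
    have e : D.map a ≫ f l = f k := Over.w (E.map a)
    haveI : IsAffineHom (D.map a ≫ f l) := by rw [e]; infer_instance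
    exact IsAffineHom.of_comp (D.map a) (f l)
  haveI : ∀ k, CompactSpace (D.obj k) := fun k => QuasiCompact.compactSpace_of_compactSpace (f k)
  haveI : ∀ k, QuasiSeparatedSpace (D.obj k) := fun k => quasiSeparatedSpace_of_quasiSeparated (f k)
  let Zs : ∀ k, Set (D.obj k) := fun k => f k ⁻¹' Set.range i ∩ closure {c.π.app k x}
  have hπ : ∀ k (s : P), f k (c.π.app k s) = π s := fun k s => by
    have h₁ : c.π.app k ≫ (E.obj k).hom = π := by
      show (e₀.inv.left ≫ (c₀.π.app k).left) ≫ (E.obj k).hom = π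
      rw [Category.assoc, Over.w]
      exact Over.w e₀.inv
    exact (Scheme.Hom.comp_apply _ _ s).symm.trans (congrArg (fun q : P ⟶ _ => q s) h₁)
  have hw : ∀ {k l : Kᵒᵖ} (a : k ⟶ l) (s : P), D.map a (c.π.app k s) = c.π.app l s := fun a s =>
    (Scheme.Hom.comp_apply _ _ s).symm.trans (congrArg (fun q : P ⟶ _ => q s) (c.w a))
  have hT : π ⁻¹' Set.range i ∩ closure {x} = {s : P | ∀ k, c.π.app k s ∈ Zs k} := by
    refine Set.Subset.antisymm (fun s hs k => ⟨?_, map_mem_closure (c.π.app k).continuous hs.2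
      (by rintro _ rfl; exact rfl)⟩) fun s hs => ⟨?_, ?_⟩
    · show f k (c.π.app k s) ∈ Set.range i
      rw [hπ]; exact hs.1
    · obtain ⟨k⟩ := (inferInstance : Nonempty Kᵒᵖ)
      show π s ∈ Set.range i
      rw [← hπ k]; exact (hs k).1
    · refine mem_of_closure_image D c hc (C := closure ({x} : Set P)) isClosed_closure (s := s) fun k => ?_
      refine closure_mono ?_ (hs k).2
      rintro _ rfl
      exact ⟨x, subset_closure rfl, rfl⟩
  rw [hT]
  refine isPreconnected_limit D c hc Zs
    (fun k => ((i.isClosedEmbedding.isClosed_range).preimage (f k).continuous).inter isClosed_closure)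
    (fun {k l} a z hz => ⟨?_, map_mem_closure (D.map a).continuous hz.2 (by rintro _ rfl; exact hw a x)⟩) fun k => ?_
  · show f l (D.map a z) ∈ Set.range i
    have : f l (D.map a z) = f k z := (Scheme.Hom.comp_apply _ _ z).symm.trans
      (congrArg (fun q : D.obj k ⟶ _ => q z) (Over.w (E.map a)))
    rw [this]; exact hz.1
  · exact ⟨Zs k, (hfin (f k) _).isPreconnected, subset_rfl, fun s hs => hs k⟩

end Groth.Agent.EtH0Lib
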