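import Groth.Agent.EtH0Lib.EtGlue
import Groth.Agent.EtH0Lib.Cover
import Groth.Agent.EtH0Lib.Components
import Groth.Agent.BigSiteLib.EtDescSec.General

/-!
# Transports of sections along base changes
-/

set_option autoImplicit false
set_option linter.style.haveILetI false

universe u

open CategoryTheory CategoryTheory.Limits AlgebraicGeometry Opposite TopologicalSpace
open Groth.Agent.BigSiteLib.DescSec

namespace Groth.Agent.EtH0Lib

set_option backward.isDefEq.respectTransparency.types false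

variable {R S T : Scheme.{u}} (g : T ⟶ S) (a : S ⟶ R) (b : T ⟶ R) (w : g ≫ a = b) {F : EtDesc.Sh R}

/-- Transport of a section pulled back along `g`. -/
noncomputable abbrev tau (σ : ((EtDesc.pullSh a).obj F).obj.obj (op (EtCoh.top S))) :
    ((EtDesc.pullSh b).obj F).obj.obj (op (EtCoh.top T)) :=
  (EtDesc.pullVia g a b w F).hom.hom.app (op (EtCoh.top T)) (EtDesc.secPull g ((EtDesc.pullSh a).obj F) σ)

/-- The map of base changes. -/
noncomputable abbrev bcMap (V : R.Etale) : ((EtCoh.bc b).obj V).left ⟶ ((EtCoh.bc a).obj V).left :=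
  (viaC g a b w V).left ≫ pullback.fst ((EtCoh.bc a).obj V).hom g

theorem bcMap_fst (V : R.Etale) (x : ((EtCoh.bc b).obj V).left) : pr a V (bcMap g a b w V x) = pr b V x :=
  (Scheme.Hom.comp_apply _ _ x).symm.trans
    (congrArg (fun q : pullback V.hom b ⟶ V.left => q x) (viaC_left g a b w V).1)

theorem bcMap_snd (V : R.Etale) (x : ((EtCoh.bc b).obj V).left) :
    ((EtCoh.bc a).obj V).hom (bcMap g a b w V x) = g (((EtCoh.bc b).obj V).hom x) :=
  ((Scheme.Hom.comp_apply _ _ x).symm.trans
    (congrArg (fun q : pullback V.hom b ⟶ S => q x) (viaC_left g a b w V).2)).trans (Scheme.Hom.comp_apply _ _ x)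

theorem match_tau {V : R.Etale} {x : F.obj.obj (op V)} {σ : ((EtDesc.pullSh a).obj F).obj.obj (op (EtCoh.top S))}
    {y : ((EtCoh.bc b).obj V).left} (h : Match a σ V x (bcMap g a b w V y)) :
    Match b (tau g a b w σ) V x y := by
  rw [bcMap, Scheme.Hom.comp_apply] at h
  exact locEq_transfer g ((EtDesc.pullSh a).obj F) (EtDesc.pullVia g a b w F) (viaC g a b w V) (up a F V x)
    (up b F V x) σ (unit_viaC g a b w F V x) y h

theorem match_of_tau {V : R.Etale} {x : F.obj.obj (op V)} {σ : ((EtDesc.pullSh a).obj F).obj.obj (op (EtCoh.top S))}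
    {y : ((EtCoh.bc b).obj V).left} (h : Match b (tau g a b w σ) V x y) :
    Match a σ V x (bcMap g a b w V y) := by
  rw [bcMap, Scheme.Hom.comp_apply]
  exact locEq_transfer_back g ((EtDesc.pullSh a).obj F) (EtDesc.pullVia g a b w F) (viaC g a b w V) (up a F V x)
    (up b F V x) σ (unit_viaC g a b w F V x) y h

theorem pullback_hom_point {W : R.Etale} {f : T ⟶ R} (y : ((EtCoh.bc f).obj W).left) :
    W.hom (pr f W y) = f (((EtCoh.bc f).obj W).hom y) :=
  ((Scheme.Hom.comp_apply _ _ y).symm.trans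
    (congrArg (fun q : pullback W.hom f ⟶ R => q y) pullback.condition)).trans (Scheme.Hom.comp_apply _ _ y)

theorem isIso_bcC (V : R.Etale) : IsIso (bcC g a V) := by
  delta bcC
  exact ((MorphismProperty.Over.pullbackComp (P := EtCoh.etaleMP) (Q := ⊤) g a).app V).isIso_hom

theorem exists_bcMap_eq (V : R.Etale) {u : ((EtCoh.bc a).obj V).left} {t : T} (h : ((EtCoh.bc a).obj V).hom u = g t) :
    ∃ y : ((EtCoh.bc b).obj V).left, bcMap g a b w V y = u := by
  obtain ⟨y', hy', -⟩ := Scheme.Pullback.exists_preimage_pullback (f := ((EtCoh.bc a).obj V).hom) (g := g) u t h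
  haveI : IsIso (viaC g a b w V) := by
    haveI := isIso_bcC g a V
    delta viaC
    infer_instance
  let e := (Scheme.Etale.forget _ ⋙ CategoryTheory.Over.forget _).mapIso (asIso (viaC g a b w V))
  refine ⟨e.inv y', ?_⟩
  rw [Scheme.Hom.comp_apply, ← hy']
  refine congrArg (pullback.fst ((EtCoh.bc a).obj V).hom g) ?_
  show (e.hom (e.inv y')) = y'
  rw [← Scheme.Hom.comp_apply, e.inv_hom_id]
  rfl

/-- A section on a cover inducing the given one on the closed part has equal transports at points over it. -/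
theorem locEq_tau_of_cover {X X' Z P Q : Scheme.{u}} (π : X' ⟶ X) (i : Z ⟶ X) [IsClosedImmersion i]
    (i' : Q ⟶ X') (q : Q ⟶ Z) (hQ : IsPullback i' q π i) (c : Q ⟶ X) (wi : i' ≫ π = c) (wq : q ≫ i = c)
    {F : EtDesc.Sh X} (s : ((EtDesc.pullSh i).obj F).obj.obj (op (EtCoh.top Z)))
    (g' : ((EtDesc.pullSh π).obj F).obj.obj (op (EtCoh.top X'))) (hτ : tau i' π c wi g' = tau q i c wq s)
    (p₁ p₂ : P ⟶ X') (d : P ⟶ X) (w₁ : p₁ ≫ π = d) (w₂ : p₂ ≫ π = d) (y : P) (z₀ : Z) (hz₀ : i z₀ = d y) :
    LocEq ((EtDesc.pullSh d).obj F).obj (tau p₁ π d w₁ g') (tau p₂ π d w₂ g') (show (EtCoh.top P).left from y) := by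
  obtain ⟨V, x, z, m, hz, hm⟩ := exists_locEq_up i F s z₀
  rw [(EtCore.topIsTerminal Z).hom_ext m (toTop _)] at hm
  obtain ⟨w₀, hw₀, hw₀'⟩ := Scheme.Pullback.exists_preimage_pullback (f := V.hom) (g := d) (pr i V z) y
    (by rw [pullback_hom_point, hz, hz₀])
  have key : ∀ (p : P ⟶ X') (wp : p ≫ π = d), Match d (tau p π d wp g') V x w₀ := fun p wp => by
    refine match_tau p π d wp ?_
    obtain ⟨z', hz', -⟩ := Scheme.exists_preimage_of_isPullback hQ (p y) z₀
      (by rw [← Scheme.Hom.comp_apply, wp, hz₀])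
    obtain ⟨w'', hw''⟩ := exists_bcMap_eq i' π c wi V (u := bcMap p π d wp V w₀) (t := z')
      ((bcMap_snd p π d wp V w₀).trans ((congrArg p hw₀').trans hz'.symm))
    rw [← hw'']
    refine match_of_tau i' π c wi ?_
    rw [hτ]
    refine match_tau q i c wq ?_
    haveI : IsClosedImmersion (pr i V) := MorphismProperty.pullback_fst (P := @IsClosedImmersion) _ _ inferInstance
    have : bcMap q i c wq V w'' = z := (pr i V).isClosedEmbedding.injective (by
      rw [bcMap_fst, ← bcMap_fst i' π c wi V w'', hw'', bcMap_fst]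
      exact hw₀)
    rw [this]
    exact hm
  rw [show (show (EtCoh.top P).left from y) = (toTop ((EtCoh.bc d).obj V)).left w₀ from
    ((toTop_left_apply _ _).trans hw₀').symm]
  exact LocEq.of_map _ (((key _ w₁).symm).trans (key _ w₂))

/-- Descent of a section whose two transports to the fibre product agree. -/
theorem exists_secPull_of_tau {X X' : Scheme.{u}} (π : X' ⟶ X) (hπ : EtDesc.IsUnivSubmersive π) {F : EtDesc.Sh X}
    (g' : ((EtDesc.pullSh π).obj F).obj.obj (op (EtCoh.top X')))
    (h : tau (pullback.fst π π) π (pullback.fst π π ≫ π) rfl g' =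
      tau (pullback.snd π π) π (pullback.fst π π ≫ π) pullback.condition.symm g') :
    ∃ g₀, EtDesc.secPull π F g₀ = g' :=
  exists_secPull π hπ g' (by
    refine x2_app' π (EtDesc.canIso π F).hom (EtDesc.secPull (pullback.fst π π) ((EtDesc.pullSh π).obj F) g')
      (EtDesc.secPull (pullback.snd π π) ((EtDesc.pullSh π).obj F) g') ?_
    exact (iso_apply_eq_iff (EtDesc.canIso π F) _ _ (canIso_eq π F) (EtCoh.top (pullback π π))
      (EtDesc.secPull (pullback.fst π π) ((EtDesc.pullSh π).obj F) g')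
      (EtDesc.secPull (pullback.snd π π) ((EtDesc.pullSh π).obj F) g')).2 h)

end Groth.Agent.EtH0Lib
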