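import Mathlib.AlgebraicGeometry.AffineTransitionLimit
import Mathlib.AlgebraicGeometry.Morphisms.QuasiSeparated

/-!
# Connectedness in limits of schemes with affine transition morphisms
-/

set_option autoImplicit false

universe u

open CategoryTheory CategoryTheory.Limits AlgebraicGeometry TopologicalSpace

namespace Groth.Agent.EtH0Lib

variable {I : Type u} [Category.{u} I] [IsCofiltered I] (D : I ⥤ Scheme.{u}) (c : Cone D) (hc : IsLimit c)
  [∀ {i j} (f : i ⟶ j), IsAffineHom (D.map f)]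

include hc in
/-- A limit is preconnected if the images at every stage lie in preconnected sets. -/
theorem preconnectedSpace_of_isLimit [∀ i, CompactSpace (D.obj i)] [∀ i, QuasiSeparatedSpace (D.obj i)]
    (hS : ∀ i, ∃ S : Set (D.obj i), _root_.IsPreconnected S ∧ ∀ s, c.π.app i s ∈ S) : PreconnectedSpace c.pt := by
  rw [preconnectedSpace_iff_clopen]
  intro A hA
  by_contra! hne
  haveI : CompactSpace c.pt := Scheme.compactSpace_of_isLimit D c hc
  obtain ⟨a, ha⟩ := hne.1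
  obtain ⟨b, hb⟩ := (Set.ne_univ_iff_exists_notMem A).1 hne.2
  obtain ⟨i₁, U₁, hU₁, e₁⟩ := exists_preimage_eq D c hc ⟨A, hA.isOpen⟩ hA.isClosed.isCompact
  obtain ⟨i₂, U₂, hU₂, e₂⟩ := exists_preimage_eq D c hc ⟨Aᶜ, hA.isClosed.isOpen_compl⟩
    hA.compl.isClosed.isCompact
  let i := IsCofiltered.min i₁ i₂
  let U : (D.obj i).Opens := D.map (IsCofiltered.minToLeft i₁ i₂) ⁻¹ᵁ U₁
  let V : (D.obj i).Opens := D.map (IsCofiltered.minToRight i₁ i₂) ⁻¹ᵁ U₂
  have hU : ∀ s, c.π.app i s ∈ U ↔ s ∈ A := fun s => by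
    rw [show (s ∈ A ↔ c.π.app i₁ s ∈ U₁) from
      Iff.of_eq (congrArg (fun W : c.pt.Opens => s ∈ W) e₁.symm), ← c.w (IsCofiltered.minToLeft i₁ i₂),
      Scheme.Hom.comp_apply]
    rfl
  have hV : ∀ s, c.π.app i s ∈ V ↔ s ∉ A := fun s => by
    rw [show (s ∉ A ↔ c.π.app i₂ s ∈ U₂) from
      Iff.of_eq (congrArg (fun W : c.pt.Opens => s ∈ W) e₂.symm), ← c.w (IsCofiltered.minToRight i₁ i₂),
      Scheme.Hom.comp_apply]
    rfl
  obtain ⟨j, f, hj⟩ := exists_map_eq_top D c hc (U ⊔ V) (TopologicalSpace.Opens.ext (Set.eq_univ_of_forall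
    fun s => (em (s ∈ A)).elim (fun h => Or.inl ((hU s).2 h)) fun h => Or.inr ((hV s).2 h)))
  have hUc : IsCompact (U : Set (D.obj i)) := QuasiCompact.isCompact_preimage _ U₁.2 hU₁
  have hVc : IsCompact (V : Set (D.obj i)) := QuasiCompact.isCompact_preimage _ U₂.2 hU₂
  obtain ⟨k, g, hk⟩ := exists_map_preimage_le_map_preimage D c hc
    (U := D.map f ⁻¹ᵁ (U ⊓ V)) (V := ⊥)
    (QuasiCompact.isCompact_preimage _ (U ⊓ V).2
      (QuasiSeparatedSpace.inter_isCompact _ _ U.2 hUc V.2 hVc))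
    (fun s hs => by
      have h : c.π.app i s ∈ U ⊓ V := by rw [← c.w f, Scheme.Hom.comp_apply]; exact hs
      exact absurd ((hU s).1 h.1) ((hV s).1 h.2))
  obtain ⟨S, hS, hSs⟩ := hS k
  have hπ : ∀ (W : (D.obj i).Opens) s, c.π.app i s ∈ W → c.π.app k s ∈ D.map g ⁻¹ᵁ D.map f ⁻¹ᵁ W := fun W s h => by
    show D.map f (D.map g (c.π.app k s)) ∈ W
    rwa [← Scheme.Hom.comp_apply (c.π.app k) (D.map g), c.w g, ← Scheme.Hom.comp_apply, c.w f]
  obtain ⟨y, -, hy⟩ := hS (D.map g ⁻¹ᵁ D.map f ⁻¹ᵁ U) (D.map g ⁻¹ᵁ D.map f ⁻¹ᵁ V)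
    (D.map g ⁻¹ᵁ D.map f ⁻¹ᵁ U).isOpen (D.map g ⁻¹ᵁ D.map f ⁻¹ᵁ V).isOpen
    (fun x _ => by
      have : D.map g x ∈ D.map f ⁻¹ᵁ (U ⊔ V) := by rw [hj]; trivial
      exact this)
    ⟨_, hSs a, hπ U a ((hU a).2 ha)⟩ ⟨_, hSs b, hπ V b ((hV b).2 hb)⟩
  exact (hk hy : y ∈ D.map g ⁻¹ᵁ (⊥ : (D.obj j).Opens))

set_option backward.defeqAttrib.useBackward true in
set_option backward.isDefEq.respectTransparency false in
include hc in
open Scheme.IdealSheafData in
/-- A limit of closed subsets is preconnected if the images at every stage lie in preconnected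
subsets of the stages. -/
theorem isPreconnected_limit [∀ i, CompactSpace (D.obj i)] [∀ i, QuasiSeparatedSpace (D.obj i)]
    (Z : ∀ i, Set (D.obj i)) (hZc : ∀ i, IsClosed (Z i))
    (hmapsTo : ∀ {i i' : I} (f : i ⟶ i'), Set.MapsTo (D.map f) (Z i) (Z i'))
    (hS : ∀ i, ∃ S, _root_.IsPreconnected S ∧ S ⊆ Z i ∧ ∀ s, (∀ j, c.π.app j s ∈ Z j) → c.π.app i s ∈ S) :
    _root_.IsPreconnected {s : c.pt | ∀ i, c.π.app i s ∈ Z i} := by
  let D' : I ⥤ Scheme :=
  { obj i := (vanishingIdeal ⟨Z i, hZc i⟩).subscheme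
    map {X Y} f := subschemeMap _ _ (D.map f) (by
      rw [map_vanishingIdeal, ← le_support_iff_le_vanishingIdeal]
      simpa [(hZc _).closure_subset_iff] using (hmapsTo f).subset_preimage)
    map_id _ := by simp [← cancel_mono (subschemeι _)]
    map_comp _ _ := by simp [← cancel_mono (subschemeι _)] }
  let ι : D' ⟶ D := { app i := subschemeι _, naturality _ _ _ := by simp [D'] }
  have {i j} (f : i ⟶ j) : IsAffineHom (D'.map f) := by
    suffices IsAffineHom (D'.map f ≫ ι.app j) from .of_comp _ (ι.app j)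
    simp only [subschemeMap_subschemeι, D', ι]
    infer_instance
  have _ (i) : CompactSpace (D'.obj i) := isCompact_iff_compactSpace.mp (hZc i).isCompact
  have _ (i) : QuasiSeparatedSpace (D'.obj i) :=
    quasiSeparatedSpace_of_quasiSeparated (vanishingIdeal ⟨Z i, hZc i⟩).subschemeι
  let c' : Cone D' :=
  { pt := (⨆ i, (vanishingIdeal ⟨Z i, hZc i⟩).comap (c.π.app i)).subscheme
    π :=
    { app i := subschemeMap _ _ (c.π.app i) (by simp [le_map_iff_comap_le, le_iSup_of_le i])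
      naturality {i j} f := by simp [D', ← cancel_mono (subschemeι _)] } }
  let hc' : IsLimit c' :=
  { lift s := IsClosedImmersion.lift (subschemeι _) (hc.lift ((Cone.postcompose ι).obj s)) (by
      suffices ∀ i, vanishingIdeal ⟨Z i, hZc i⟩ ≤ (s.π.app i ≫ ι.app i).ker by
        simpa [← le_map_iff_comap_le, ← Scheme.Hom.ker_comp]
      refine fun i ↦ .trans ?_ (Scheme.Hom.le_ker_comp _ _)
      simp [ι])
    fac s i := by simp [← cancel_mono (subschemeι _), c', ι]
    uniq s m hm := by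
      rw [← cancel_mono (subschemeι _)]
      refine hc.hom_ext fun i ↦ ?_
      simp [ι, c', ← hm] }
  let p : c'.pt ⟶ c.pt := subschemeι _
  have hp : Set.range p = {s : c.pt | ∀ i, c.π.app i s ∈ Z i} := by
    ext s
    simp [p, c', range_subschemeι]
  have key : ∀ i (t : c'.pt), ι.app i (c'.π.app i t) = c.π.app i (p t) := fun i t => by
    refine ((Scheme.Hom.comp_apply _ _ t).symm.trans ?_).trans (Scheme.Hom.comp_apply p (c.π.app i) t)
    congr 1
    simp [c', ι, p]
  haveI : PreconnectedSpace c'.pt := preconnectedSpace_of_isLimit D' c' hc' fun i => by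
    obtain ⟨S, hS, hSZ, hSs⟩ := hS i
    have hr : Set.range (ι.app i) = Z i := by
      show Set.range (subschemeι _) = _
      rw [range_subschemeι]
      simp
    refine ⟨ι.app i ⁻¹' S, ?_, fun t => ?_⟩
    · refine (Topology.IsInducing.isPreconnected_image
        (subschemeι (vanishingIdeal ⟨Z i, hZc i⟩)).isClosedEmbedding.isInducing).1 ?_
      rwa [Set.image_preimage_eq_of_subset (hr.symm ▸ hSZ)]
    · show ι.app i (c'.π.app i t) ∈ S
      rw [key]
      exact hSs _ fun j => hp.subset ⟨t, rfl⟩ j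
      
  rw [← hp]
  exact isPreconnected_range p.continuous

end Groth.Agent.EtH0Lib
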