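import Groth.Agent.SpecLib.Basic
import Mathlib.Topology.Sets.Opens

/-!
# Gluing from a closed subset meeting the closures of points connectedly
-/

set_option autoImplicit false

universe u

open Topology TopologicalSpace

namespace Groth.Agent.EtH0Lib

variable {X : Type u} [TopologicalSpace X] [SpectralSpace X]

/-- The points specializing into a compact set form a pro-constructible set. -/
theorem cc_generalizations_of_compact {K : Set X} (hK : IsCompact K) : SpecLib.CC {x : X | ∃ a ∈ K, x ⤳ a} := by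
  have e : {x : X | ∃ a ∈ K, x ⤳ a} = ⋂₀ {s : Set X | (IsOpen s ∧ IsCompact s) ∧ K ⊆ s} := by
    refine Set.Subset.antisymm (fun x ⟨a, ha, hxa⟩ s hs => hxa.mem_open hs.1.1 (hs.2 ha)) fun x hx => ?_
    by_contra hne
    have : ∀ v ∈ K, ∃ U : Set X, (IsOpen U ∧ IsCompact U) ∧ v ∈ U ∧ x ∉ U := fun v hv => by
      by_contra h
      push Not at h
      exact hne ⟨v, hv, SpecLib.specializes_of_forall_qc fun U a b c => h U ⟨a, b⟩ c⟩
    choose! U hU heU hxU using this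
    obtain ⟨t, htV, ht, hcov⟩ := hK.elim_finite_subcover_image (fun v hv => (hU v hv).1)
      (fun v hv => Set.mem_biUnion hv (heU v hv))
    obtain ⟨v, hv, hxv⟩ := Set.mem_iUnion₂.1 (hx (⋃ v ∈ t, U v) ⟨⟨isOpen_biUnion fun v hv => (hU v (htV hv)).1,
      ht.isCompact_biUnion fun v hv => (hU v (htV hv)).2⟩, hcov⟩)
    exact hxU v (htV hv) hxv
  exact e ▸ SpecLib.CC.sInter fun s hs => SpecLib.cc_of_isOpen_isCompact hs.1.1 hs.1.2

/-- Local data agreeing along `Z` agree on smaller neighbourhoods, which cover `X`. -/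
theorem exists_shrink (Z : Set X) (hZ : IsClosed Z) (hconn : ∀ x : X, IsConnected (Z ∩ closure {x}))
    {ι : Type*} (idx : Z → ι) (W : ι → Opens X) (hW : ∀ z : Z, z.1 ∈ W (idx z))
    (E : ι → ι → Opens X) (hsymm : ∀ a b, E a b ≤ E b a) (htrans : ∀ a b c, E a b ⊓ E b c ≤ E a c)
    (hE : ∀ a b, ∀ y ∈ Z, y ∈ W a → y ∈ W b → y ∈ E a b) :
    ∃ O : Z → Opens X, (∀ z, z.1 ∈ O z ∧ O z ≤ W (idx z)) ∧ (⨆ z, O z) = ⊤ ∧
      ∀ z z', O z ⊓ O z' ≤ E (idx z) (idx z') := by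
  choose V hVo hVc hzV hVW using fun z : Z => SpecLib.exists_qc (hW z) (W (idx z)).isOpen
  obtain ⟨t, ht⟩ := hZ.isCompact.elim_finite_subcover V hVo
    fun y hy => Set.mem_iUnion.2 ⟨⟨y, hy⟩, hzV ⟨y, hy⟩⟩
  let bad : Z → Z → Set X := fun z k =>
    ((V z ∩ V k) ∩ (E (idx z) (idx k) : Set X)ᶜ) ∩ {x | ∃ a ∈ Z ∩ V k, x ⤳ a}
  have hcc : ∀ z k, SpecLib.CC (bad z k) := fun z k =>
    ((SpecLib.cc_of_isOpen_isCompact ((hVo z).inter (hVo k))
      (QuasiSeparatedSpace.inter_isCompact _ _ (hVo z) (hVc z) (hVo k) (hVc k))).inter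
        (SpecLib.cc_of_isClosed (E (idx z) (idx k)).isOpen.isClosed_compl)).inter
      (cc_generalizations_of_compact ((hVc k).inter_left hZ))
  have key : ∀ z k, z.1 ∉ closure (bad z k) := by
    intro z k hzk
    obtain ⟨x, ⟨⟨⟨hxz, hxk⟩, hx⟩, a, ⟨haZ, hak⟩, hxa⟩, hxz'⟩ := (hcc z k).exists_specializes hzk
    refine hx ?_
    let C := Z ∩ closure {x}
    have hzC : z.1 ∈ C := ⟨z.2, hxz'.mem_closure⟩
    have haC : a ∈ C := ⟨haZ, hxa.mem_closure⟩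
    have hgen : ∀ {y : X}, y ∈ C → ∀ {O : Opens X}, y ∈ O → x ∈ O := fun {y} hy O hO =>
      (specializes_iff_mem_closure.2 hy.2).mem_open O.isOpen hO
    let R : ∀ y, y ∈ C → Prop := fun y hy => x ∈ E (idx z) (idx ⟨y, hy.1⟩)
    have hloc : ∀ y (hy : y ∈ C), ∀ y' (hy' : y' ∈ C), y' ∈ W (idx ⟨y, hy.1⟩) →
        x ∈ E (idx ⟨y, hy.1⟩) (idx ⟨y', hy'.1⟩) := fun y hy y' hy' h =>
      hgen hy' (hE _ _ y' hy'.1 h (hW ⟨y', hy'.1⟩))
    have hall : ∀ y (hy : y ∈ C), R y hy := by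
      haveI := isPreconnected_iff_preconnectedSpace.1 (hconn x).isPreconnected
      let P : Set C := {y | R y.1 y.2}
      have hop : ∀ y : C, ∃ O : Set C, IsOpen O ∧ y ∈ O ∧ ∀ y' ∈ O, (R y.1 y.2 ↔ R y'.1 y'.2) := fun y =>
        ⟨Subtype.val ⁻¹' (W (idx ⟨y.1, y.2.1⟩) : Set X), (W _).isOpen.preimage continuous_subtype_val,
          hW ⟨y.1, y.2.1⟩, fun y' hy' =>
            ⟨fun h => htrans _ _ _ ⟨h, hloc _ y.2 _ y'.2 hy'⟩,
              fun h => htrans _ _ _ ⟨h, hsymm _ _ (hloc _ y.2 _ y'.2 hy')⟩⟩⟩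
      have hP : IsClopen P := by
        refine ⟨⟨isOpen_iff_forall_mem_open.2 fun y hy => ?_⟩, isOpen_iff_forall_mem_open.2 fun y hy => ?_⟩
        · obtain ⟨O, hO, hyO, h⟩ := hop y
          exact ⟨O, fun y' hy' h' => hy ((h y' hy').2 h'), hO, hyO⟩
        · obtain ⟨O, hO, hyO, h⟩ := hop y
          exact ⟨O, fun y' hy' => (h y' hy').1 hy, hO, hyO⟩
      have hz : (⟨z.1, hzC⟩ : C) ∈ P := hgen hzC (hE _ _ z.1 z.2 (hW z) (hW z))
      intro y hy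
      exact (hP.eq_univ ⟨_, hz⟩).ge (Set.mem_univ (⟨y, hy⟩ : C))
    exact htrans _ _ _ ⟨hall a haC, hgen haC (hE _ _ a haZ (hW ⟨a, haZ⟩) (hVW k hak))⟩
  let O : Z → Opens X := fun z => ⟨V z \ ⋃ k ∈ t, closure (bad z k),
    (hVo z).sdiff (isClosed_biUnion_finset fun k _ => isClosed_closure)⟩
  have hzO : ∀ z : Z, z.1 ∈ O z := fun z => ⟨hzV z, by simpa using fun a ha _ => key z ⟨a, ha⟩⟩
  refine ⟨O, fun z => ⟨hzO z, fun x hx => hVW z hx.1⟩, eq_top_iff.2 fun x _ => ?_, fun z z' x hx => ?_⟩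
  · obtain ⟨y, hy, hyx⟩ := (hconn x).nonempty
    exact Opens.mem_iSup.2 ⟨⟨y, hy⟩, (specializes_iff_mem_closure.2 hyx).mem_open (O _).isOpen (hzO ⟨y, hy⟩)⟩
  · obtain ⟨y, hy, hyx⟩ := (hconn x).nonempty
    obtain ⟨k, hkt, hyk⟩ := Set.mem_iUnion₂.1 (ht hy)
    have hxk : x ∈ V k := (specializes_iff_mem_closure.2 hyx).mem_open (hVo k) hyk
    have h : ∀ {w : Z}, x ∈ O w → x ∈ E (idx w) (idx k) := fun {w} hw => by
      by_contra hn
      exact hw.2 (Set.mem_biUnion hkt (subset_closure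
        ⟨⟨⟨hw.1, hxk⟩, hn⟩, y, ⟨hy, hyk⟩, specializes_iff_mem_closure.2 hyx⟩))
    exact htrans _ _ _ ⟨h hx.1, hsymm _ _ (h hx.2)⟩

end Groth.Agent.EtH0Lib
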