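import Groth.Agent.EtH0Lib.Spectral
import Groth.Agent.ShSpLib.Embedding
import Mathlib.Topology.Sheaves.SheafCondition.UniqueGluing

/-!
# Global sections over a closed subset of a spectral space
-/

set_option autoImplicit false
set_option linter.style.haveILetI false
set_option backward.isDefEq.respectTransparency false
set_option backward.isDefEq.respectTransparency.types false

universe u

open CategoryTheory CategoryTheory.Limits TopologicalSpace Opposite TopCat Topology

namespace Groth.Agent.EtH0Lib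

variable {Z X : TopCat.{u}} {i : Z ⟶ X} (hi : IsInducing i) (F : X.Sheaf (Type u))

/-- The inverse image. -/
noncomputable abbrev pl : Z.Sheaf (Type u) := (TopCat.Sheaf.pullback (Type u) i).obj F

/-- The unit, as a morphism of presheaves. -/
noncomputable abbrev unP : F.presheaf ⟶ (TopCat.Presheaf.pushforward (Type u) i).obj (pl (i := i) F).presheaf :=
  ((TopCat.Sheaf.pullbackPushforwardAdjunction (Type u) i).unit.app F).1

/-- The comparison of stalks. -/
noncomputable def stalkU (z : Z) : F.presheaf.stalk (i z) ⟶ (pl (i := i) F).presheaf.stalk z :=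
  (TopCat.Presheaf.stalkFunctor (Type u) (i z)).map (unP F) ≫
    TopCat.Presheaf.stalkPushforward (Type u) i (pl (i := i) F).presheaf z

include hi in
theorem bijective_stalk_unit (z : Z) : Function.Bijective (stalkU (i := i) F z) := by
  obtain ⟨_, _⟩ := ShSpLib.pushforward_fullyFaithful hi
  haveI : IsIso ((TopCat.Sheaf.pullback (Type u) i).map ((TopCat.Sheaf.pullbackPushforwardAdjunction (Type u) i).unit.app F)) := by
    haveI := ShSpLib.isIso_counit hi (pl (i := i) F)
    have : IsIso ((TopCat.Sheaf.pullback (Type u) i).map ((TopCat.Sheaf.pullbackPushforwardAdjunction (Type u) i).unit.app F) ≫ (TopCat.Sheaf.pullbackPushforwardAdjunction (Type u) i).counit.app (pl (i := i) F)) := by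
      rw [(TopCat.Sheaf.pullbackPushforwardAdjunction (Type u) i).left_triangle_components F]; exact IsIso.id _
    exact IsIso.of_isIso_comp_right _ ((TopCat.Sheaf.pullbackPushforwardAdjunction (Type u) i).counit.app (pl (i := i) F))
  haveI : IsIso ((TopCat.Presheaf.stalkFunctor (Type u) (i z)).map ((TopCat.Sheaf.pullbackPushforwardAdjunction (Type u) i).unit.app F).1) :=
    (NatIso.isIso_map_iff (ShSpLib.pullbackStalkIso i z) ((TopCat.Sheaf.pullbackPushforwardAdjunction (Type u) i).unit.app F)).1
      ((TopCat.Sheaf.forget (Type u) Z ⋙ TopCat.Presheaf.stalkFunctor (Type u) z).map_isIso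
        ((TopCat.Sheaf.pullback (Type u) i).map ((TopCat.Sheaf.pullbackPushforwardAdjunction (Type u) i).unit.app F)))
  haveI := TopCat.Presheaf.stalkPushforward.stalkPushforward_iso_of_isInducing (C := Type u) hi (pl (i := i) F).presheaf z
  haveI : IsIso (stalkU (i := i) F z) := IsIso.comp_isIso
  exact (isIso_iff_bijective _).1 inferInstance

/-- The unit on sections. -/
noncomputable abbrev un (W : Opens X) (s : F.presheaf.obj (op W)) :
    (pl (i := i) F).presheaf.obj (op ((Opens.map i).obj W)) := (unP (i := i) F).app (op W) s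

theorem germ_un {W : Opens X} (z : Z) (hz : i z ∈ W) (s : F.presheaf.obj (op W)) :
    stalkU (i := i) F z (F.presheaf.germ W (i z) hz s) =
    (pl (i := i) F).presheaf.germ ((Opens.map i).obj W) z hz (un (i := i) F W s) := by
  rw [stalkU, ConcreteCategory.comp_apply]
  exact (congrArg _ (TopCat.Presheaf.stalkFunctor_map_germ_apply W (i z) hz (unP (i := i) F) s)).trans
    (TopCat.Presheaf.stalkPushforward_germ_apply (Type u) i (pl (i := i) F).presheaf W z hz _)

include hi in
/-- Restriction to a closed subset meeting every closure connectedly is bijective on global sections. -/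
theorem bijective_unit_top [SpectralSpace X] (hcl : IsClosed (Set.range i))
    (hconn : ∀ x : X, IsConnected (Set.range i ∩ closure {x})) :
    Function.Bijective (((TopCat.Sheaf.pullbackPushforwardAdjunction (Type u) i).unit.app F).hom.app (op ⊤)) := by
  have hgen : ∀ (x : X), ∃ z : Z, x ⤳ i z := fun x => by
    obtain ⟨_, ⟨z, rfl⟩, hz⟩ := (hconn x).nonempty
    exact ⟨z, specializes_iff_mem_closure.2 hz⟩
  refine ⟨fun a b hab => ?_, fun t => ?_⟩
  · refine TopCat.Presheaf.section_ext F ⊤ a b fun x _ => ?_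
    obtain ⟨z, hxz⟩ := hgen x
    have h := (bijective_stalk_unit hi F z).1 (a₁ := F.presheaf.germ ⊤ (i z) (Set.mem_univ _) a)
      (a₂ := F.presheaf.germ ⊤ (i z) (Set.mem_univ _) b) (by rw [germ_un (i := i) F z, germ_un (i := i) F z]; exact congrArg _ hab)
    obtain ⟨W, hzW, iU, iV, e⟩ := TopCat.Presheaf.germ_eq F.presheaf (i z) (Set.mem_univ _) (Set.mem_univ _) a b h
    rw [← TopCat.Presheaf.germ_res_apply F.presheaf iU x (hxz.mem_open W.isOpen hzW) a, e,
      TopCat.Presheaf.germ_res_apply]
  · let t' : (pl (i := i) F).presheaf.obj (op ((Opens.map i).obj ⊤)) := t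
    have hloc : ∀ z : Z, ∃ (W : Opens X) (s : F.presheaf.obj (op W)), i z ∈ W ∧
        ∀ y (hy : i y ∈ W), (pl (i := i) F).presheaf.germ _ y hy (un (i := i) F W s) = (pl (i := i) F).presheaf.germ _ y (Set.mem_univ _) t' := fun z => by
      obtain ⟨c, hc⟩ := (bijective_stalk_unit hi F z).2 ((pl (i := i) F).presheaf.germ _ z (Set.mem_univ _) t')
      obtain ⟨W, hzW, s, rfl⟩ := TopCat.Presheaf.exists_germ_eq F.presheaf c
      rw [germ_un (i := i) F z hzW] at hc
      obtain ⟨O, hzO, iU, iV, e⟩ := TopCat.Presheaf.germ_eq (pl (i := i) F).presheaf z hzW (Set.mem_univ _) _ _ hc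
      obtain ⟨O', hO'o, hO'⟩ := hi.isOpen_iff.1 O.isOpen
      refine ⟨W ⊓ ⟨O', hO'o⟩, F.presheaf.map (homOfLE inf_le_left).op s, ⟨hzW, ?_⟩, fun y hy => ?_⟩
      · exact (Set.ext_iff.1 hO' z).2 hzO
      · have hyO : y ∈ O := (Set.ext_iff.1 hO' y).1 hy.2
        rw [← germ_un (i := i) F y hy, TopCat.Presheaf.germ_res_apply, germ_un (i := i) F y hy.1,
          ← TopCat.Presheaf.germ_res_apply (pl (i := i) F).presheaf iU y hyO, e, TopCat.Presheaf.germ_res_apply]
    choose W s hzW hs using hloc
    choose idx hidx using fun z : Set.range i => z.2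
    have hW : ∀ z : Set.range i, z.1 ∈ W (idx z) := fun z => hidx z ▸ hzW (idx z)
    let E : Z → Z → Opens X := fun a b =>
      ⟨{x | ∃ (ha : x ∈ W a) (hb : x ∈ W b), F.presheaf.germ _ x ha (s a) = F.presheaf.germ _ x hb (s b)}, by
        refine isOpen_iff_forall_mem_open.2 fun x ⟨ha, hb, h⟩ => ?_
        obtain ⟨O, hxO, iU, iV, e⟩ := TopCat.Presheaf.germ_eq F.presheaf x ha hb _ _ h
        refine ⟨O, fun y hy => ⟨iU.le hy, iV.le hy, ?_⟩, O.isOpen, hxO⟩
        rw [← TopCat.Presheaf.germ_res_apply F.presheaf iU y hy, e, TopCat.Presheaf.germ_res_apply]⟩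
    obtain ⟨O, hO, hcov, hOE⟩ := exists_shrink (Set.range i) hcl hconn idx W hW E
      (fun a b x ⟨ha, hb, h⟩ => ⟨hb, ha, h.symm⟩)
      (fun a b c x ⟨⟨ha, _, h⟩, ⟨_, hc, h'⟩⟩ => ⟨ha, hc, h.trans h'⟩)
      (fun a b y ⟨z, hz⟩ ha hb => by
        subst hz
        refine ⟨ha, hb, (bijective_stalk_unit hi F z).1 ?_⟩
        rw [germ_un (i := i) F z ha, germ_un (i := i) F z hb, hs a z ha, hs b z hb])
    let sf : ∀ z : Set.range i, F.presheaf.obj (op (O z)) := fun z =>
      F.presheaf.map (homOfLE (hO z).2).op (s (idx z))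
    obtain ⟨g, hg, -⟩ := F.existsUnique_gluing' O ⊤ (fun z => homOfLE le_top) hcov.ge sf (fun a b => by
      refine TopCat.Presheaf.section_ext F _ _ _ fun x hx => ?_
      rw [TopCat.Presheaf.germ_res_apply, TopCat.Presheaf.germ_res_apply, TopCat.Presheaf.germ_res_apply,
        TopCat.Presheaf.germ_res_apply]
      obtain ⟨_, _, h⟩ := hOE a b hx
      exact h)
    refine ⟨g, TopCat.Presheaf.section_ext (pl (i := i) F) _ _ _ fun y hy => ?_⟩
    let z : Set.range i := ⟨i y, y, rfl⟩
    have hyz : i y ∈ O z := (hO z).1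
    have hg' : F.presheaf.germ ⊤ (i y) (Set.mem_univ _) g = F.presheaf.germ _ (i y) ((hO z).2 hyz) (s (idx z)) := by
      rw [← TopCat.Presheaf.germ_res_apply F.presheaf (homOfLE le_top) (i y) hyz g, hg z,
        TopCat.Presheaf.germ_res_apply]
    show (pl (i := i) F).presheaf.germ ((Opens.map i).obj ⊤) y hy (un (i := i) F ⊤ g) = _
    rw [← germ_un (i := i) F y (W := ⊤) (Set.mem_univ _), hg', germ_un (i := i) F y, hs]

end Groth.Agent.EtH0Lib
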